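import Mathlib
import Cfsg.Agent.Helper57Spinor
import Cfsg.Agent.Lib.Orth.Omega

/-!
`Ω₇(3)` by explicit matrices: coordinates, Siegel matrices, the conjugation relation.
-/

set_option autoImplicit false

namespace CfsgLib.Omega73

open Matrix QuadraticMap CfsgLib.Orth Cfsg.Agent.Spinor57

/-- The index type. -/
abbrev I : Type := Unit ⊕ (Fin 3 ⊕ Fin 3)

/-- Vectors. -/
abbrev V : Type := I → ZMod 3

/-- Matrices. -/
abbrev Mat : Type := Matrix I I (ZMod 3)

instance factThree : Fact (Nat.Prime 3) := ⟨by decide⟩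

theorem two_ne : (2 : ZMod 3) ≠ 0 := by decide

theorem two_not_sq : ¬ IsSquare (2 : ZMod 3) := by
  rintro ⟨r, hr⟩
  revert hr r
  decide

/-- The form. -/
noncomputable abbrev Q : QuadraticForm (ZMod 3) V := qOdd 3 (ZMod 3)

theorem nondeg : Q.polarBilin.Nondegenerate := qOdd_nondegenerate two_ne

/-- Position of an index. -/
def ix : I → ℕ
  | .inl _ => 0
  | .inr (.inl j) => 1 + j.1
  | .inr (.inr j) => 4 + j.1

/-- The position `k`. -/
def xi : ℕ → I
  | 1 => .inr (.inl 0)
  | 2 => .inr (.inl 1)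
  | 3 => .inr (.inl 2)
  | 4 => .inr (.inr 0)
  | 5 => .inr (.inr 1)
  | 6 => .inr (.inr 2)
  | _ => .inl ()

/-- The value of the form. -/
def qv (v : V) : ZMod 3 :=
  v (xi 0) * v (xi 0) + v (xi 1) * v (xi 4) + v (xi 2) * v (xi 5) + v (xi 3) * v (xi 6)

/-- The polar form. -/
def pol (u v : V) : ZMod 3 :=
  2 * u (xi 0) * v (xi 0) + u (xi 1) * v (xi 4) + u (xi 4) * v (xi 1) + u (xi 2) * v (xi 5) +
    u (xi 5) * v (xi 2) + u (xi 3) * v (xi 6) + u (xi 6) * v (xi 3)

theorem Q_eq (v : V) : Q v = qv v := by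
  rw [qOdd_coe]
  simp only [Cfsg.quadFormOdd, Fin.sum_univ_three, qv, xi]
  ring

theorem polar_eq (u v : V) : polar Q u v = pol u v := by
  rw [polar_qOdd]
  simp only [Fin.sum_univ_three, pol, xi]
  ring

/-- The unit vector at position `k`. -/
def e (k : ℕ) : V := fun i => if ix i = k then 1 else 0

theorem e_eq_single (i : I) : e (ix i) = Pi.single i 1 := by
  funext j
  revert i j
  decide

/-- The vector with digits of `n`. -/
def vec (n : ℕ) : V := fun i => ((n / 3 ^ ix i % 3 : ℕ) : ZMod 3)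

/-- The code of a vector. -/
def code (v : V) : ℕ :=
  (v (xi 0)).val + 3 * (v (xi 1)).val + 9 * (v (xi 2)).val + 27 * (v (xi 3)).val +
    81 * (v (xi 4)).val + 243 * (v (xi 5)).val + 729 * (v (xi 6)).val

theorem code_lt (v : V) : code v < 2187 := by
  have h : ∀ x : ZMod 3, x.val ≤ 2 := fun x => Nat.le_of_lt_succ x.val_lt
  have := h (v (xi 0)); have := h (v (xi 1)); have := h (v (xi 2)); have := h (v (xi 3))
  have := h (v (xi 4)); have := h (v (xi 5)); have := h (v (xi 6))
  unfold code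
  omega

theorem vec_code (v : V) : vec (code v) = v := by
  funext i
  have h : ∀ x : ZMod 3, x.val ≤ 2 := fun x => Nat.le_of_lt_succ x.val_lt
  have := h (v (xi 0)); have := h (v (xi 1)); have := h (v (xi 2)); have := h (v (xi 3))
  have := h (v (xi 4)); have := h (v (xi 5)); have := h (v (xi 6))
  have h7 : ∀ k < 7, code v / 3 ^ k % 3 = (v (xi k)).val := by
    intro k hk
    unfold code
    interval_cases k <;> norm_num <;> omega
  have hlt : ∀ i : I, ix i < 7 := by decide
  have hi : ∀ i : I, xi (ix i) = i := by decide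
  have key := h7 (ix i) (hlt i)
  rw [hi i] at key
  simp only [vec, key, ZMod.natCast_zmod_val]

/-- The matrix with digits of `n`. -/
def enc (n : ℕ) : Mat := Matrix.of fun i j => ((n / 3 ^ (7 * ix i + ix j) % 3 : ℕ) : ZMod 3)

/-- The Siegel (Eichler) map. -/
def sv (u a x : V) : V :=
  fun i => x i + pol x u * a i + (-(pol x a) - qv a * pol x u) * u i

/-- Its matrix. -/
def siegel (u a : V) : Mat := Matrix.of fun i j => sv u a (e (ix j)) i

/-- The commutator subgroup. -/
noncomputable abbrev Om : Subgroup (O Q) := commutator (O Q)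

/-- The matrix of an isometry. -/
noncomputable abbrev mat (g : O Q) : Mat := ((g : GL I (ZMod 3)) : Mat)

theorem mat_mul (g h : O Q) : mat (g * h) = mat g * mat h := rfl

theorem mat_one : mat (1 : O Q) = 1 := rfl

theorem mat_injective {g h : O Q} (hgh : mat g = mat h) : g = h :=
  Subtype.ext (Units.ext hgh)

theorem app_eq_mulVec (g : O Q) (x : V) : app g x = mat g *ᵥ x := rfl

theorem mat_inv_mul (g : O Q) : mat g⁻¹ * mat g = 1 := by rw [← mat_mul, inv_mul_cancel, mat_one]

theorem mat_mul_inv (g : O Q) : mat g * mat g⁻¹ = 1 := by rw [← mat_mul, mul_inv_cancel, mat_one]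

theorem mem_Om_iff (g : O Q) : g ∈ Om ↔ chiPair Q (2 : ZMod 3) g = 1 := by
  rw [Om, commutator_eq nondeg two_ne two_not_sq, MonoidHom.mem_ker]

/-- An isometry of order dividing three lies in the commutator subgroup. -/
theorem mem_Om_of_cube {g : O Q} (h : g * g * g = 1) : g ∈ Om := by
  rw [mem_Om_iff]
  have h' := congrArg (chiPair Q (2 : ZMod 3)) h
  rw [map_mul, map_mul, map_one] at h'
  have key : ∀ c : ℤˣ × ℤˣ, c * c * c = 1 → c = 1 := by decide
  exact key _ h'

theorem mat_eich {u a : V} (hu : qv u = 0) (ha : pol u a = 0) : mat (eich Q u a) = siegel u a := by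
  refine Matrix.ext_of_mulVec_single fun j => ?_
  rw [← app_eq_mulVec, app_eich (by rw [Q_eq, hu]) (by rw [polar_eq, ha])]
  funext i
  rw [Matrix.mulVec_single_one, Matrix.col_apply, siegel, Matrix.of_apply, sv, e_eq_single]
  simp only [polar_eq, Q_eq, Pi.add_apply, Pi.smul_apply, smul_eq_mul]

theorem siegel_add {u a b : V} (hu : qv u = 0) (ha : pol u a = 0) (hb : pol u b = 0) :
    siegel u a * siegel u b = siegel u (a + b) := by
  rw [← mat_eich hu ha, ← mat_eich hu hb, ← mat_mul,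
    eich_add (by rw [Q_eq, hu]) (by rw [polar_eq, ha]) (by rw [polar_eq, hb])]
  rw [mat_eich hu]
  rw [← polar_eq, polar_add_right, polar_eq, polar_eq, ha, hb, add_zero]

theorem eich_mem {u a : V} (hu : qv u = 0) (ha : pol u a = 0) : eich Q u a ∈ Om := by
  apply mem_Om_of_cube
  have hu' : Q u = 0 := by rw [Q_eq, hu]
  have ha' : polar Q u a = 0 := by rw [polar_eq, ha]
  rw [eich_add hu' ha' ha', eich_add hu' (by rw [polar_add_right, ha', add_zero]) ha']
  have h3 : a + a + a = 0 := funext fun i => (by decide : ∀ c : ZMod 3, c + c + c = 0) (a i)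
  rw [h3]
  exact ext_app fun x => by
    rw [app_one, app_eich hu' (by rw [polar_zero_right])]
    simp

/-- Conjugation of Eichler elements. -/
theorem eich_conj (k : O Q) {u a : V} (hu : qv u = 0) (ha : pol u a = 0) :
    k * eich Q u a * k⁻¹ = eich Q (app k u) (app k a) := by
  have hu' : Q u = 0 := by rw [Q_eq, hu]
  have ha' : polar Q u a = 0 := by rw [polar_eq, ha]
  refine ext_app fun x => ?_
  rw [app_mul, app_mul, app_eich hu' ha', app_eich (by rw [Q_app, hu']) (by rw [polar_app, ha'])]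
  conv_rhs => rw [← app_app_inv k x]
  rw [polar_app, polar_app, Q_app]
  simp only [map_add, map_smul, app_app_inv]

theorem mat_conj_siegel (k : O Q) {u a : V} (hu : qv u = 0) (ha : pol u a = 0) :
    mat k * siegel u a = siegel (mat k *ᵥ u) (mat k *ᵥ a) * mat k := by
  rw [← mat_eich hu ha, ← mat_eich (u := mat k *ᵥ u) (a := mat k *ᵥ a)
    (by rw [← app_eq_mulVec, ← Q_eq, Q_app, Q_eq, hu])
    (by rw [← app_eq_mulVec, ← app_eq_mulVec, ← polar_eq, polar_app, polar_eq, ha]),
    ← app_eq_mulVec, ← app_eq_mulVec, ← eich_conj k hu ha, ← mat_mul, ← mat_mul,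
    inv_mul_cancel_right]

/-- A matrix of the commutator subgroup. -/
def InOm (M : Mat) : Prop := ∃ k : O Q, k ∈ Om ∧ mat k = M

theorem inOm_one : InOm 1 := ⟨1, one_mem _, mat_one⟩

theorem InOm.mul {A B : Mat} (hA : InOm A) (hB : InOm B) : InOm (A * B) := by
  obtain ⟨a, ha, rfl⟩ := hA
  obtain ⟨b, hb, rfl⟩ := hB
  exact ⟨a * b, mul_mem ha hb, mat_mul a b⟩

theorem inOm_siegel {u a : V} (hu : qv u = 0) (ha : pol u a = 0) : InOm (siegel u a) :=
  ⟨eich Q u a, eich_mem hu ha, mat_eich hu ha⟩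

/-- A matrix preserving the polar form on the basis is an isometry. -/
theorem Q_mulVec_of_basis {M : Mat}
    (h : ∀ i j : I, pol (M *ᵥ e (ix i)) (M *ᵥ e (ix j)) = pol (e (ix i)) (e (ix j))) (v : V) :
    Q (M *ᵥ v) = Q v := by
  have hB : Q.polarBilin.compl₁₂ M.mulVecLin M.mulVecLin = Q.polarBilin :=
    LinearMap.ext_basis (Pi.basisFun (ZMod 3) I) (Pi.basisFun (ZMod 3) I) fun i j => by
      simp only [LinearMap.compl₁₂_apply, Matrix.mulVecLin_apply, Pi.basisFun_apply,
        polarBilin_apply_apply, polar_eq]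
      rw [← e_eq_single, ← e_eq_single]
      exact h i j
  have h2 := LinearMap.congr_fun (LinearMap.congr_fun hB v) v
  simp only [LinearMap.compl₁₂_apply, Matrix.mulVecLin_apply, polarBilin_apply_apply,
    polar_self'] at h2
  exact mul_left_cancel₀ two_ne h2

/-- A matrix of order dividing three preserving the form lies in the commutator subgroup. -/
theorem inOm_of_cube {M : Mat} (h3 : M * M * M = 1)
    (h : ∀ i j : I, pol (M *ᵥ e (ix i)) (M *ᵥ e (ix j)) = pol (e (ix i)) (e (ix j))) :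
    InOm M := by
  let g : O Q := ⟨⟨M, M * M, by rw [← mul_assoc, h3], h3⟩, fun u _ => Q_mulVec_of_basis h u⟩
  exact ⟨g, mem_Om_of_cube (mat_injective h3), rfl⟩

/-- Conjugation by an element of the commutator subgroup. -/
def Rel (A B : Mat) : Prop := ∃ M : Mat, InOm M ∧ M * A = B * M

theorem Rel.refl (A : Mat) : Rel A A := ⟨1, inOm_one, by rw [one_mul, mul_one]⟩

theorem Rel.trans {A B C : Mat} (h₁ : Rel A B) (h₂ : Rel B C) : Rel A C := by
  obtain ⟨M, hM, h1⟩ := h₁
  obtain ⟨N, hN, h2⟩ := h₂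
  exact ⟨N * M, hN.mul hM, by rw [mul_assoc, h1, ← mul_assoc, h2, mul_assoc]⟩

theorem Rel.symm {A B : Mat} (h : Rel A B) : Rel B A := by
  obtain ⟨M, ⟨k, hk, rfl⟩, h⟩ := h
  refine ⟨mat k⁻¹, ⟨k⁻¹, inv_mem hk, rfl⟩, ?_⟩
  calc mat k⁻¹ * B = mat k⁻¹ * B * (mat k * mat k⁻¹) := by rw [mat_mul_inv, mul_one]
    _ = mat k⁻¹ * (B * mat k) * mat k⁻¹ := by simp only [mul_assoc]
    _ = (mat k⁻¹ * mat k) * A * mat k⁻¹ := by rw [← h]; simp only [mul_assoc]
    _ = A * mat k⁻¹ := by rw [mat_inv_mul, one_mul]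

theorem rel_conj (k g : O Q) (hk : k ∈ Om) : Rel (mat g) (mat (k * g * k⁻¹)) :=
  ⟨mat k, ⟨k, hk, rfl⟩, by rw [← mat_mul, ← mat_mul, inv_mul_cancel_right]⟩

theorem Rel.cube {A B : Mat} (h : Rel A B) (hA : A * A * A = 1) : B * B * B = 1 := by
  obtain ⟨M, ⟨k, -, rfl⟩, h⟩ := h
  have hB : B = mat k * A * mat k⁻¹ := by
    rw [h, mul_assoc, mat_mul_inv, mul_one]
  calc B * B * B = mat k * (A * (mat k⁻¹ * mat k) * A * (mat k⁻¹ * mat k) * A) * mat k⁻¹ := by
        rw [hB]; simp only [mul_assoc]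
    _ = mat k * (A * A * A) * mat k⁻¹ := by rw [mat_inv_mul, mul_one, mul_one]
    _ = 1 := by rw [hA, mul_one, mat_mul_inv]

end CfsgLib.Omega73
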