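import Cfsg.Agent.Lib.OmegaSevenThree.Flag
import Cfsg.Agent.Lib.OmegaSevenThree.Data

/-!
Checked tables for the covering of the elements of order three of `Ω₇(3)`.
-/

set_option autoImplicit false
set_option maxHeartbeats 0
set_option maxRecDepth 100000

namespace CfsgLib.Omega73

open Matrix QuadraticMap CfsgLib.Orth

/-- The matrix of a word. -/
def word (k : ℕ) : Mat := enc (Data.words.getD k (0, 0, 0)).1

/-- The check for a word. -/
def WordOk (k : ℕ) : Prop :=
  let d := Data.words.getD k (0, 0, 0)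
  if k < 13 then
    ((∀ i j, (word k * word k) i j = (word k * word k) i j) ∧
      (∀ i j : I, pol (word k *ᵥ e (ix i)) (word k *ᵥ e (ix j)) = pol (e (ix i)) (e (ix j))))
  else d.2.1 < k ∧ d.2.2 < k ∧ word k = word d.2.1 * word d.2.2

instance decWordOk (k : ℕ) : Decidable (WordOk k) := by unfold WordOk; infer_instance

theorem base_cube : ∀ k < 13, word k * (word k * word k) = 1 := by decide +kernel

theorem word_ok : ∀ k < 192, WordOk k := by decide +kernel

theorem word_inOm : ∀ k < 192, InOm (word k) := by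
  intro k
  induction k using Nat.strong_induction_on with
  | _ k ih =>
    intro hk
    have h := word_ok k hk
    unfold WordOk at h
    by_cases h13 : k < 13
    · rw [if_pos h13] at h
      exact inOm_of_cube (by rw [mul_assoc]; exact base_cube k h13) h.2
    · rw [if_neg h13] at h
      rw [h.2.2]
      exact (ih _ h.1 (lt_trans h.1 hk)).mul (ih _ h.2.1 (lt_trans h.2.1 hk))

/-- The code of the `n`-th vector of the middle space. -/
def w5code (n : ℕ) : ℕ :=
  n % 3 + 9 * (n / 3 % 3) + 27 * (n / 9 % 3) + 243 * (n / 27 % 3) + 729 * (n / 81 % 3)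

/-- The `n`-th vector of the middle space. -/
def w5 (n : ℕ) : V := vec (w5code n)

theorem exists_w5 {w : V} (hw : InW 1 w) : ∃ n < 243, w = w5 n := by
  have h0 := hw 0 (by decide)
  have hb : ∀ x : ZMod 3, x.val ≤ 2 := fun x => Nat.le_of_lt_succ x.val_lt
  refine ⟨(w (xi 0)).val + 3 * (w (xi 2)).val + 9 * (w (xi 3)).val + 27 * (w (xi 5)).val +
    81 * (w (xi 6)).val, ?_, ?_⟩
  · have := hb (w (xi 0)); have := hb (w (xi 2)); have := hb (w (xi 3))
    have := hb (w (xi 5)); have := hb (w (xi 6))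
    omega
  · refine vec_inj_code _ _ ?_
    have h1 : w (xi 1) = 0 := h0.1
    have h4 : w (xi 4) = 0 := h0.2
    have := hb (w (xi 0)); have := hb (w (xi 2)); have := hb (w (xi 3))
    have := hb (w (xi 5)); have := hb (w (xi 6))
    rw [w5, code_vec (by unfold w5code; omega)]
    simp only [code, w5code, h1, h4, ZMod.val_zero]
    omega

/-- The inner vector at level one. -/
def w3 (c : ℕ) : V := vec (c % 3 + 27 * (c / 3 % 3) + 729 * (c / 9 % 3))

/-- The inner vector at level two. -/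
def w1 (c : ℕ) : V := vec (c / 27 % 3)

theorem exists_w3 {a b : V} (ha : InW 2 a) (hb' : InW 3 b) :
    ∃ c < 81, a = w3 c ∧ b = w1 c := by
  have hb : ∀ x : ZMod 3, x.val ≤ 2 := fun x => Nat.le_of_lt_succ x.val_lt
  have a0 := ha 0 (by decide)
  have a1 := ha 1 (by decide)
  have b0 := hb' 0 (by decide)
  have b1 := hb' 1 (by decide)
  have b2 := hb' 2 (by decide)
  have e1 : a (xi 1) = 0 := a0.1
  have e2 : a (xi 4) = 0 := a0.2
  have e3 : a (xi 2) = 0 := a1.1
  have e4 : a (xi 5) = 0 := a1.2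
  have f1 : b (xi 1) = 0 := b0.1
  have f2 : b (xi 4) = 0 := b0.2
  have f3 : b (xi 2) = 0 := b1.1
  have f4 : b (xi 5) = 0 := b1.2
  have f5 : b (xi 3) = 0 := b2.1
  have f6 : b (xi 6) = 0 := b2.2
  have := hb (a (xi 0)); have := hb (a (xi 3)); have := hb (a (xi 6)); have := hb (b (xi 0))
  refine ⟨(a (xi 0)).val + 3 * (a (xi 3)).val + 9 * (a (xi 6)).val + 27 * (b (xi 0)).val,
    by omega, ?_, ?_⟩
  · refine vec_inj_code _ _ ?_
    rw [w3, code_vec (by omega)]
    simp only [code, e1, e2, e3, e4, ZMod.val_zero]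
    omega
  · refine vec_inj_code _ _ ?_
    rw [w1, code_vec (by omega)]
    simp only [code, f1, f2, f3, f4, f5, f6, ZMod.val_zero]
    omega

/-- The tabulated outer matrix. -/
def t0 (n : ℕ) : Mat := enc (Data.t0.getD n 0)

/-- The tabulated inner matrix. -/
def u1 (c : ℕ) : Mat := enc (Data.u1.getD c 0)

/-- The inner representative. -/
def rt (r : ℕ) : Mat := enc (Data.rt.getD r 0)

/-- The representatives. -/
def rep (i : ℕ) : Mat := enc (Data.rep.getD i 0)

theorem t0_eq : ∀ n < 243, t0 n = siegel (xx 0) (w5 n) := by decide +kernel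

theorem u1_eq : ∀ c < 81, u1 c = siegel (xx 1) (w3 c) * siegel (xx 2) (w1 c) := by decide +kernel

/-- The check for the inner reduction. -/
def InnerOk (c : ℕ) : Prop :=
  let d := Data.inner.getD c (0, 0, 0)
  if d.2.1 = 0 then u1 c * u1 c = enc d.2.2 ∧ enc d.2.2 * u1 c ≠ 1
  else d.1 < 192 ∧ d.2.1 ≤ 5 ∧ word d.1 * u1 c = rt (d.2.1 - 1) * word d.1 ∧
    word d.1 *ᵥ xx 0 = xx 0 ∧ word d.1 *ᵥ yy 0 = yy 0

instance decInnerOk (c : ℕ) : Decidable (InnerOk c) := by unfold InnerOk; infer_instance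

theorem inner_ok : ∀ c < 81, InnerOk c := by decide +kernel

/-- The outer table of an inner representative. -/
def tab (r : ℕ) : List (ℕ × ℕ × ℕ × ℕ × ℕ) := Data.outer.getD r []

/-- The generators of its centraliser. -/
def gen (r g : ℕ) : ℕ := (Data.centGens.getD r []).getD g 0

/-- The check for one entry of the outer table. -/
def OuterOk (r p : ℕ) : Prop :=
  let d := (tab r).getD p (0, 0, 0, 0, 0)
  d.1 < 243 ∧
  if d.2.1 = 0 then d.2.2.1 < 22 ∧ (Data.final.getD d.2.2.1 (0, 0, 0, 0)).1 = r ∧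
      (Data.final.getD d.2.2.1 (0, 0, 0, 0)).2.1 = d.1
  else d.2.2.1 < p ∧ d.2.2.2.1 < (Data.centGens.getD r []).length ∧ d.2.2.2.2 < 243 ∧
    word (gen r d.2.2.2.1) *ᵥ w5 d.1 + w5 d.2.2.2.2 - rt r *ᵥ w5 d.2.2.2.2 =
      w5 ((tab r).getD d.2.2.1 (0, 0, 0, 0, 0)).1

instance decOuterOk (r p : ℕ) : Decidable (OuterOk r p) := by unfold OuterOk; infer_instance

theorem outer_ok : ∀ r < 5, ∀ p < (tab r).length, OuterOk r p := by decide +kernel

/-- The check for a centraliser generator. -/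
def GenOk (r g : ℕ) : Prop :=
  gen r g < 192 ∧ word (gen r g) * rt r = rt r * word (gen r g) ∧
    word (gen r g) *ᵥ xx 0 = xx 0 ∧ word (gen r g) *ᵥ yy 0 = yy 0

instance decGenOk (r g : ℕ) : Decidable (GenOk r g) := by unfold GenOk; infer_instance

theorem gen_ok : ∀ r < 5, ∀ g < (Data.centGens.getD r []).length, GenOk r g := by decide +kernel

theorem rt_ok : ∀ r < 5, rt r * (rt r * rt r) = 1 ∧
    (∀ i j : I, pol (rt r *ᵥ e (ix i)) (rt r *ᵥ e (ix j)) = pol (e (ix i)) (e (ix j))) ∧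
    rt r *ᵥ xx 0 = xx 0 ∧ rt r *ᵥ yy 0 = yy 0 := by decide +kernel

theorem outer_cover : ∀ r < 5, ∀ n < 243,
    (∃ p < (tab r).length, ((tab r).getD p (0, 0, 0, 0, 0)).1 = n) ∨
      w5 n + rt r *ᵥ w5 n + rt r *ᵥ (rt r *ᵥ w5 n) ≠ 0 := by decide +kernel

/-- The check for the final conjugations. -/
def FinalOk (t : ℕ) : Prop :=
  let d := Data.final.getD t (0, 0, 0, 0)
  d.2.2.1 < 192 ∧ d.2.2.2 < 8 ∧ word d.2.2.1 * (t0 d.2.1 * rt d.1) = rep d.2.2.2 * word d.2.2.1

instance decFinalOk (t : ℕ) : Decidable (FinalOk t) := by unfold FinalOk; infer_instance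

theorem final_ok : ∀ t < 22, FinalOk t := by decide +kernel

theorem w5_mem : ∀ n < 243, InW 1 (w5 n) := by decide +kernel

end CfsgLib.Omega73
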