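import Cfsg.Agent.Lib.OmegaSevenThree.Checks

/-!
Every element of order dividing three of `Ω₇(3)` is conjugate to one of eight representatives.
-/

set_option autoImplicit false

namespace CfsgLib.Omega73

open Matrix QuadraticMap CfsgLib.Orth

theorem InW.add {j : ℕ} {u v : V} (hu : InW j u) (hv : InW j v) : InW j (u + v) := fun i hi => by
  simp [(hu i hi).1, (hu i hi).2, (hv i hi).1, (hv i hi).2]

/-- A word fixing `x₀, y₀` moves an outer element to an outer element. -/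
theorem word_siegel {M : Mat} (hM : InOm M) (hx : M *ᵥ xx 0 = xx 0) (hy : M *ᵥ yy 0 = yy 0)
    {w : V} (hw : InW 1 w) :
    InW 1 (M *ᵥ w) ∧ M * siegel (xx 0) w = siegel (xx 0) (M *ᵥ w) * M := by
  obtain ⟨k, -, rfl⟩ := hM
  have hf : Fix 1 k := fun i hi => by
    have : i = 0 := Fin.ext (by omega)
    subst this
    exact ⟨hx, hy⟩
  refine ⟨hf.app_mem hw, ?_⟩
  rw [mat_conj_siegel k (qv_xx 0) (pol_xx_of_mem (j := 0) hw), hx]

theorem siegel_eq_one {u : V} (hu : InW 1 u) (h : siegel (xx 0) u = 1) : u = 0 := by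
  have hp : pol (xx 0) u = 0 := pol_xx_of_mem (j := 0) hu
  have key : app (eich Q (xx 0) u) (yy 0) = yy 0 := by
    rw [app_eq_mulVec, mat_eich (qv_xx 0) hp, h, one_mulVec]
  rw [app_eich' (qv_xx 0) hp, pol_yy_xx, pol_yy_of_mem (j := 0) hu, add_assoc, add_eq_left,
    one_smul, neg_zero, zero_sub, mul_one] at key
  have hc := congrFun key (xi (1 + (0 : Fin 3).1))
  simp only [Pi.add_apply, Pi.smul_apply, smul_eq_mul, (hu 0 (by decide)).1, xx_coord,
    Pi.zero_apply, mul_one, zero_add] at hc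
  rwa [hc, zero_smul, add_zero] at key

theorem rt_inOm {r : ℕ} (hr : r < 5) : InOm (rt r) :=
  inOm_of_cube (by rw [mul_assoc]; exact (rt_ok r hr).1) (rt_ok r hr).2.1

/-- Reduction of a node of an outer forest. -/
theorem outer_root : ∀ r < 5, ∀ p < (tab r).length,
    ∃ i < 8, Rel (siegel (xx 0) (w5 ((tab r).getD p (0, 0, 0, 0, 0)).1) * rt r) (rep i) := by
  intro r hr p
  induction p using Nat.strong_induction_on with
  | _ p ih =>
    intro hp
    obtain ⟨hn, h⟩ := outer_ok r hr p hp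
    by_cases h0 : ((tab r).getD p (0, 0, 0, 0, 0)).2.1 = 0
    · rw [if_pos h0] at h
      obtain ⟨hk, hi, heq⟩ := final_ok _ h.1
      refine ⟨_, hi, ⟨_, word_inOm _ hk, ?_⟩⟩
      rw [h.2.1, h.2.2, t0_eq _ hn] at heq
      exact heq
    · rw [if_neg h0] at h
      obtain ⟨hq, hg, hv, heq⟩ := h
      obtain ⟨i, hi, hrel⟩ := ih _ hq (lt_trans hq hp)
      refine ⟨i, hi, Rel.trans ?_ hrel⟩
      set n := ((tab r).getD p (0, 0, 0, 0, 0)).1
      set v := w5 ((tab r).getD p (0, 0, 0, 0, 0)).2.2.2.2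
      set g := ((tab r).getD p (0, 0, 0, 0, 0)).2.2.2.1
      obtain ⟨hg', hcomm, hgx, hgy⟩ := gen_ok r hr g hg
      set C := word (gen r g)
      set m := w5 ((tab r).getD ((tab r).getD p (0, 0, 0, 0, 0)).2.2.1 (0, 0, 0, 0, 0)).1
      obtain ⟨hC1, hC2⟩ : InW 1 (C *ᵥ w5 n) ∧
          C * siegel (xx 0) (w5 n) = siegel (xx 0) (C *ᵥ w5 n) * C :=
        word_siegel (word_inOm _ hg') hgx hgy (w5_mem n hn)
      obtain ⟨hR1, hR2⟩ : InW 1 (rt r *ᵥ v) ∧
          rt r * siegel (xx 0) v = siegel (xx 0) (rt r *ᵥ v) * rt r :=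
        word_siegel (rt_inOm hr) (rt_ok r hr).2.2.1 (rt_ok r hr).2.2.2 (w5_mem _ hv)
      have hv' : InW 1 v := w5_mem _ hv
      have hm : m = C *ᵥ w5 n + v - rt r *ᵥ v := heq.symm
      have hmW : InW 1 m := by
        intro i hi
        rw [hm]
        simp [hC1 i hi, hv' i hi, hR1 i hi]
      have hp' : ∀ {u : V}, InW 1 u → pol (xx 0) u = 0 := fun hu => pol_xx_of_mem (j := 0) hu
      refine ⟨siegel (xx 0) v * C,
        (inOm_siegel (qv_xx 0) (hp' hv')).mul (word_inOm _ hg'), ?_⟩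
      have hsum : v + C *ᵥ w5 n = m + rt r *ᵥ v := by rw [hm]; abel
      calc siegel (xx 0) v * C * (siegel (xx 0) (w5 n) * rt r)
          = siegel (xx 0) v * (C * siegel (xx 0) (w5 n)) * rt r := by simp only [mul_assoc]
        _ = siegel (xx 0) v * siegel (xx 0) (C *ᵥ w5 n) * (C * rt r) := by
            rw [hC2]; simp only [mul_assoc]
        _ = siegel (xx 0) m * siegel (xx 0) (rt r *ᵥ v) * (rt r * C) := by
            rw [siegel_add (qv_xx 0) (hp' hv') (hp' hC1),
              siegel_add (qv_xx 0) (hp' hmW) (hp' hR1), hsum, hcomm]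
        _ = siegel (xx 0) m * (siegel (xx 0) (rt r *ᵥ v) * rt r) * C := by simp only [mul_assoc]
        _ = siegel (xx 0) m * rt r * (siegel (xx 0) v * C) := by
            rw [← hR2]; simp only [mul_assoc]

/-- **Covering by the representatives.** -/
theorem exists_rep {g : O Q} (hg : g * g * g = 1) : ∃ i < 8, Rel (mat g) (rep i) := by
  obtain ⟨a, b, c, ha, hb, hc, hcube, hrel⟩ := exists_normal_form hg
  obtain ⟨k, hk, rfl, rfl⟩ := exists_w3 hb hc
  rw [← u1_eq k hk] at hrel hcube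
  have hin := inner_ok k hk
  by_cases h0 : (Data.inner.getD k (0, 0, 0)).2.1 = 0
  · unfold InnerOk at hin
    rw [if_pos h0] at hin
    rw [hin.1] at hcube
    exact absurd hcube hin.2
  · unfold InnerOk at hin
    rw [if_neg h0] at hin
    obtain ⟨hK, hr, heq, hKx, hKy⟩ := hin
    set K := word (Data.inner.getD k (0, 0, 0)).1
    set r := (Data.inner.getD k (0, 0, 0)).2.1 - 1
    have hr5 : r < 5 := by omega
    obtain ⟨hW, hC⟩ : InW 1 (K *ᵥ a) ∧ K * siegel (xx 0) a = siegel (xx 0) (K *ᵥ a) * K :=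
      word_siegel (word_inOm _ hK) hKx hKy ha
    obtain ⟨n, hn, hnw⟩ := exists_w5 hW
    have hrel' : Rel (mat g) (siegel (xx 0) (w5 n) * rt r) := hrel.trans
      ⟨K, word_inOm _ hK, by rw [← mul_assoc, hC, ← hnw, mul_assoc, heq, ← mul_assoc]⟩
    have hA : siegel (xx 0) (w5 n) * rt r * (siegel (xx 0) (w5 n) * rt r) *
        (siegel (xx 0) (w5 n) * rt r) = 1 := hrel'.cube (by rw [← mat_mul, ← mat_mul, hg, mat_one])
    obtain ⟨hR3, -, hRx, hRy⟩ := rt_ok r hr5
    have hwn := w5_mem n hn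
    obtain ⟨h1W, h1⟩ := word_siegel (rt_inOm hr5) hRx hRy hwn
    obtain ⟨h2W, h2⟩ := word_siegel (rt_inOm hr5) hRx hRy h1W
    have hp' : ∀ {u : V}, InW 1 u → pol (xx 0) u = 0 := fun hu => pol_xx_of_mem (j := 0) hu
    set w := w5 n
    have hsum01 : InW 1 (w + rt r *ᵥ w) := hwn.add h1W
    have hsumW : InW 1 (w + rt r *ᵥ w + rt r *ᵥ (rt r *ᵥ w)) := hsum01.add h2W
    have hzero : w + rt r *ᵥ w + rt r *ᵥ (rt r *ᵥ w) = 0 := by
      refine siegel_eq_one hsumW ?_
      rw [← hA, ← siegel_add (qv_xx 0) (hp' hsum01) (hp' h2W),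
        ← siegel_add (qv_xx 0) (hp' hwn) (hp' h1W)]
      calc siegel (xx 0) w * siegel (xx 0) (rt r *ᵥ w) * siegel (xx 0) (rt r *ᵥ (rt r *ᵥ w))
          = siegel (xx 0) w * siegel (xx 0) (rt r *ᵥ w) * siegel (xx 0) (rt r *ᵥ (rt r *ᵥ w)) *
              (rt r * (rt r * rt r)) := by rw [hR3, mul_one]
        _ = siegel (xx 0) w * siegel (xx 0) (rt r *ᵥ w) *
              (siegel (xx 0) (rt r *ᵥ (rt r *ᵥ w)) * rt r) * (rt r * rt r) := by
            simp only [mul_assoc]
        _ = siegel (xx 0) w * (siegel (xx 0) (rt r *ᵥ w) * rt r) * (siegel (xx 0) (rt r *ᵥ w)) *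
              (rt r * rt r) := by
            rw [← h2]; simp only [mul_assoc]
        _ = siegel (xx 0) w * (siegel (xx 0) (rt r *ᵥ w) * rt r) * (siegel (xx 0) (rt r *ᵥ w) * rt r) *
              rt r := by simp only [mul_assoc]
        _ = siegel (xx 0) w * (rt r * siegel (xx 0) w) * (rt r * siegel (xx 0) w) * rt r := by
            rw [← h1]
        _ = _ := by simp only [mul_assoc]
    rcases outer_cover r hr5 n hn with ⟨p, hp, hpn⟩ | hne
    · obtain ⟨i, hi, hroot⟩ := outer_root r hr5 p hp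
      rw [hpn] at hroot
      exact ⟨i, hi, hrel'.trans hroot⟩
    · exact absurd hzero hne

end CfsgLib.Omega73
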