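import Cfsg.Agent.Lib.OmegaSevenThree.Base

/-!
An element of order three of `Ω₇(3)` is conjugate to a product of three Siegel elements.
-/

set_option autoImplicit false

namespace CfsgLib.Omega73

open Matrix QuadraticMap CfsgLib.Orth

/-- The `j`-th singular basis vector. -/
def xx (j : Fin 3) : V := e (1 + j.1)

/-- Its partner. -/
def yy (j : Fin 3) : V := e (4 + j.1)

/-- The coordinates `< j` vanish. -/
def InW (j : ℕ) (v : V) : Prop := ∀ i : Fin 3, i.1 < j → v (xi (1 + i.1)) = 0 ∧ v (xi (4 + i.1)) = 0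

instance decInW (j : ℕ) (v : V) : Decidable (InW j v) := by unfold InW; infer_instance

/-- Fixing the first `j` hyperbolic pairs. -/
def Fix (j : ℕ) (k : O Q) : Prop :=
  ∀ i : Fin 3, i.1 < j → app k (xx i) = xx i ∧ app k (yy i) = yy i

theorem InW.mono {i j : ℕ} {v : V} (h : InW j v) (hij : i ≤ j) : InW i v :=
  fun t ht => h t (by omega)

theorem qv_xx : ∀ j : Fin 3, qv (xx j) = 0 := by decide

theorem qv_yy : ∀ j : Fin 3, qv (yy j) = 0 := by decide

theorem pol_xx (v : V) (j : Fin 3) : pol v (xx j) = v (xi (4 + j.1)) := by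
  fin_cases j <;> simp [pol, xx, e, xi, ix]

theorem pol_yy (v : V) (j : Fin 3) : pol v (yy j) = v (xi (1 + j.1)) := by
  fin_cases j <;> simp [pol, yy, e, xi, ix]

theorem pol_comm (u v : V) : pol u v = pol v u := by rw [← polar_eq, ← polar_eq, polar_comm]

theorem pol_app (k : O Q) (u v : V) : pol (app k u) (app k v) = pol u v := by
  rw [← polar_eq, ← polar_eq, polar_app]

theorem qv_app (k : O Q) (u : V) : qv (app k u) = qv u := by rw [← Q_eq, ← Q_eq, Q_app]

theorem Fix.inv {j : ℕ} {k : O Q} (h : Fix j k) : Fix j k⁻¹ := fun i hi =>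
  ⟨by conv_lhs => rw [← (h i hi).1, app_inv_app],
   by conv_lhs => rw [← (h i hi).2, app_inv_app]⟩

theorem Fix.mul {j : ℕ} {k l : O Q} (h : Fix j k) (h' : Fix j l) : Fix j (k * l) := fun i hi =>
  ⟨by rw [app_mul, (h' i hi).1, (h i hi).1], by rw [app_mul, (h' i hi).2, (h i hi).2]⟩

theorem fix_zero (k : O Q) : Fix 0 k := fun i hi => absurd hi (Nat.not_lt_zero _)

theorem Fix.mono {i j : ℕ} {k : O Q} (h : Fix j k) (hij : i ≤ j) : Fix i k :=
  fun t ht => h t (by omega)

theorem Fix.app_mem {j : ℕ} {k : O Q} (h : Fix j k) {v : V} (hv : InW j v) : InW j (app k v) :=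
  fun i hi => by
    have h1 := pol_app k v (yy i)
    have h2 := pol_app k v (xx i)
    rw [(h i hi).2, pol_yy, pol_yy] at h1
    rw [(h i hi).1, pol_xx, pol_xx] at h2
    rw [h1, h2]
    exact hv i hi

theorem app_eich' {u a : V} (hu : qv u = 0) (ha : pol u a = 0) (x : V) :
    app (eich Q u a) x = x + pol x u • a + (-(pol x a) - qv a * pol x u) • u := by
  rw [app_eich (by rw [Q_eq, hu]) (by rw [polar_eq, ha]), polar_eq, polar_eq, Q_eq]

theorem fix_eich {j : ℕ} {u a : V} (hu : qv u = 0) (ha : pol u a = 0) (hu' : InW j u)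
    (ha' : InW j a) : Fix j (eich Q u a) := fun i hi => by
  constructor
  · rw [app_eich' hu ha, pol_comm (xx i) u, pol_xx, (hu' i hi).2, pol_comm (xx i) a, pol_xx,
      (ha' i hi).2]
    simp
  · rw [app_eich' hu ha, pol_comm (yy i) u, pol_yy, (hu' i hi).1, pol_comm (yy i) a, pol_yy,
      (ha' i hi).1]
    simp

theorem inW_xx (j : Fin 3) : InW j.1 (xx j) := by revert j; decide

theorem inW_yy (j : Fin 3) : InW j.1 (yy j) := by revert j; decide

theorem pol_xx_self : ∀ j : Fin 3, pol (xx j) (xx j) = 0 := by decide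

theorem pol_yy_xx : ∀ j : Fin 3, pol (yy j) (xx j) = 1 := by decide

theorem pol_xx_yy : ∀ j : Fin 3, pol (xx j) (yy j) = 1 := by decide

/-- The component in the next subspace. -/
def mid (j : Fin 3) (v : V) : V :=
  v - v (xi (1 + j.1)) • xx j - v (xi (4 + j.1)) • yy j

theorem mid_mem (j : Fin 3) {v : V} (hv : InW j.1 v) : InW (j.1 + 1) (mid j v) := by
  intro i hi
  fin_cases j <;> fin_cases i <;> simp at hi <;>
    first
      | omega
      | (have h0 := hv 0; have h1 := hv 1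
         simp [mid, xx, yy, e, xi, ix] at h0 h1 ⊢ <;> simp [h0, h1])

theorem qv_split (j : Fin 3) (v : V) :
    qv v = qv (mid j v) + v (xi (1 + j.1)) * v (xi (4 + j.1)) := by
  fin_cases j <;> simp [qv, mid, xx, yy, e, xi, ix] <;> ring

theorem pol_xx_of_mem {j : Fin 3} {w : V} (hw : InW (j.1 + 1) w) : pol (xx j) w = 0 := by
  rw [pol_comm, pol_xx]; exact (hw j (by omega)).2

theorem pol_yy_of_mem {j : Fin 3} {w : V} (hw : InW (j.1 + 1) w) : pol (yy j) w = 0 := by
  rw [pol_comm, pol_yy]; exact (hw j (by omega)).1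

/-- A singular vector with nonzero `x`-coordinate is moved to the `x`-axis. -/
theorem to_axis (j : Fin 3) {v : V} (hv : InW j.1 v) (hq : qv v = 0)
    (ha : v (xi (1 + j.1)) ≠ 0) :
    ∃ k, k ∈ Om ∧ Fix j.1 k ∧ app k v = v (xi (1 + j.1)) • xx j := by
  set a := v (xi (1 + j.1)) with ha'
  set w : V := a⁻¹ • mid j v with hwdef
  have hm := mid_mem j hv
  have hw : InW (j.1 + 1) w := fun i hi => by
    simp [hwdef, (hm i hi).1, (hm i hi).2]
  have hpw := pol_yy_of_mem hw
  refine ⟨(eich Q (yy j) w)⁻¹, inv_mem (eich_mem (qv_yy j) hpw),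
    (fix_eich (qv_yy j) hpw (inW_yy j) (hw.mono (by omega))).inv, ?_⟩
  apply app_injective (eich Q (yy j) w)
  rw [app_app_inv, map_smul, app_eich' (qv_yy j) hpw, pol_xx_yy, pol_xx_of_mem hw]
  have hqw : qv w = a⁻¹ * a⁻¹ * qv (mid j v) := by
    rw [← Q_eq, ← Q_eq, hwdef, QuadraticMap.map_smul, smul_eq_mul]
  have hqm : qv (mid j v) = -(a * v (xi (4 + j.1))) := by
    have := qv_split j v
    rw [hq, ← ha'] at this
    linear_combination -this
  funext i
  rw [hqw, hqm]
  simp only [hwdef, mid, Pi.smul_apply, Pi.add_apply, Pi.sub_apply, smul_eq_mul, ← ha']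
  field_simp
  ring

theorem e_zero_mem : ∀ j : Fin 3, InW (j.1 + 1) (e 0) := by decide

theorem neg_e_zero_mem : ∀ j : Fin 3, InW (j.1 + 1) (-e 0) := by decide

theorem xx_coord : ∀ j : Fin 3, xx j (xi (1 + j.1)) = 1 := by decide

/-- The `x`-coordinate can be made nonzero. -/
theorem exists_shift (j : Fin 3) {v : V} (hv : InW j.1 v) (h0 : v ≠ 0)
    (ha : v (xi (1 + j.1)) = 0) :
    ∃ w : V, InW (j.1 + 1) w ∧ pol v w + qv w * v (xi (4 + j.1)) ≠ 0 := by
  by_contra hall
  push Not at hall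
  have key : ∀ b c : ZMod 3, c * 2 + b = 0 → -(c * 2) + b = 0 → b = 0 ∧ c = 0 := by decide
  refine h0 (funext fun i => ?_)
  have e0 := hall (e 0) (e_zero_mem j)
  have e0' := hall (-e 0) (neg_e_zero_mem j)
  fin_cases j
  · have a2 := hall (e 2) (by decide)
    have a3 := hall (e 3) (by decide)
    have a5 := hall (e 5) (by decide)
    have a6 := hall (e 6) (by decide)
    simp [pol, qv, e, xi, ix] at a2 a3 a5 a6 e0 e0' ha
    have hbc := key (v (Sum.inr (Sum.inr 0))) (v (Sum.inl ())) (by linear_combination e0)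
      (by linear_combination e0')
    rcases i with u | t | t
    · exact hbc.2
    · fin_cases t <;> assumption
    · fin_cases t
      · exact hbc.1
      all_goals assumption
  · have a3 := hall (e 3) (by decide)
    have a6 := hall (e 6) (by decide)
    have h' := hv 0 (by decide)
    simp [pol, qv, e, xi, ix] at a3 a6 e0 e0' ha h'
    have hbc := key (v (Sum.inr (Sum.inr 1))) (v (Sum.inl ())) (by linear_combination e0)
      (by linear_combination e0')
    rcases i with u | t | t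
    · exact hbc.2
    · fin_cases t
      · exact h'.1
      all_goals assumption
    · fin_cases t
      · exact h'.2
      · exact hbc.1
      · assumption
  · have h' := hv 0 (by decide)
    have h'' := hv 1 (by decide)
    simp [pol, qv, e, xi, ix] at e0 e0' ha h' h''
    have hbc := key (v (Sum.inr (Sum.inr 2))) (v (Sum.inl ())) (by linear_combination e0)
      (by linear_combination e0')
    rcases i with u | t | t
    · exact hbc.2
    · fin_cases t
      · exact h'.1
      · exact h''.1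
      · exact ha
    · fin_cases t
      · exact h'.2
      · exact h''.2
      · exact hbc.1

/-- `Ω` moves a singular vector to the axis. -/
theorem exists_axis (j : Fin 3) {v : V} (hv : InW j.1 v) (hq : qv v = 0) (h0 : v ≠ 0) :
    ∃ k, k ∈ Om ∧ Fix j.1 k ∧ ∃ a : ZMod 3, a ≠ 0 ∧ app k v = a • xx j := by
  by_cases ha : v (xi (1 + j.1)) = 0
  · obtain ⟨w, hw, hne⟩ := exists_shift j hv h0 ha
    have hp := pol_xx_of_mem hw
    have hf := fix_eich (qv_xx j) hp (inW_xx j) (hw.mono (by omega))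
    set v' := app (eich Q (xx j) w) v with hv'
    have hcoord : v' (xi (1 + j.1)) ≠ 0 := by
      rw [hv', app_eich' (qv_xx j) hp, pol_xx]
      have h1 := xx_coord j
      simp only [Pi.add_apply, Pi.smul_apply, smul_eq_mul, ha, h1, (hw j (by omega)).1]
      intro h
      exact hne (by linear_combination -h)
    obtain ⟨k, hk, hkf, hkv⟩ := to_axis j (hf.app_mem hv) (by rw [qv_app, hq]) hcoord
    exact ⟨k * eich Q (xx j) w, mul_mem hk (eich_mem (qv_xx j) hp), hkf.mul hf, _, hcoord,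
      by rw [app_mul]; exact hkv⟩
  · obtain ⟨k, hk, hkf, hkv⟩ := to_axis j hv hq ha
    exact ⟨k, hk, hkf, _, ha, hkv⟩

theorem count_mod : ∀ j : Fin 3, ((List.range 2187).filter fun n =>
    decide (InW j.1 (vec n) ∧ qv (vec n) = 0 ∧ vec n ≠ 0)).length % 3 ≠ 0 := by decide +kernel

theorem vec_inj_code : ∀ v w : V, code v = code w → v = w := fun v w h => by
  rw [← vec_code v, ← vec_code w, h]

theorem code_vec {n : ℕ} (hn : n < 2187) : code (vec n) = n := by
  have hv : ∀ m, ((m % 3 : ℕ) : ZMod 3).val = m % 3 := fun m => by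
    rw [ZMod.val_natCast, Nat.mod_mod]
  simp only [code, vec, xi, ix, hv]
  norm_num
  omega

/-- An element of order three fixes a singular vector. -/
theorem exists_fixed (j : Fin 3) {g : O Q} (hg : g * g * g = 1) (hf : Fix j.1 g) :
    ∃ v, InW j.1 v ∧ qv v = 0 ∧ v ≠ 0 ∧ app g v = v := by
  classical
  let P : V → Prop := fun v => InW j.1 v ∧ qv v = 0 ∧ v ≠ 0
  have hmap : ∀ h : O Q, Fix j.1 h → ∀ v, P v → P (app h v) := fun h hh v hv =>
    ⟨hh.app_mem hv.1, by rw [qv_app, hv.2.1],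
      fun h0 => hv.2.2 (app_injective h (by rw [h0, map_zero]))⟩
  let σ : Equiv.Perm {v : V // P v} :=
    { toFun := fun v => ⟨app g v.1, hmap g hf v.1 v.2⟩
      invFun := fun v => ⟨app g⁻¹ v.1, hmap g⁻¹ hf.inv v.1 v.2⟩
      left_inv := fun v => Subtype.ext (app_inv_app g v.1)
      right_inv := fun v => Subtype.ext (app_app_inv g v.1) }
  have hσ : σ ^ 3 ^ 1 = 1 := by
    refine Equiv.ext fun v => Subtype.ext ?_
    show app g (app g (app g v.1)) = v.1
    rw [← app_mul, ← app_mul, hg, app_one]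
  have hmod := Equiv.Perm.card_compl_support_modEq hσ
  have hcard : Fintype.card {v : V // P v} = ((List.range 2187).filter fun n =>
      decide (InW j.1 (vec n) ∧ qv (vec n) = 0 ∧ vec n ≠ 0)).length := by
    rw [Fintype.card_subtype, ← List.toFinset_card_of_nodup (List.nodup_range.filter _)]
    refine Finset.card_bij (fun v _ => code v) ?_ (fun v _ w _ h => vec_inj_code v w h) ?_
    · intro v hv
      rw [List.mem_toFinset, List.mem_filter, List.mem_range]
      refine ⟨code_lt v, ?_⟩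
      simpa [vec_code, P] using hv
    · intro n hn
      rw [List.mem_toFinset, List.mem_filter, List.mem_range] at hn
      exact ⟨vec n, by simpa [P] using hn.2, code_vec hn.1⟩
  have hne : σ.supportᶜ.Nonempty := by
    rw [← Finset.card_pos]
    by_contra h0
    have h1 : (σ.supportᶜ).card = 0 := by omega
    rw [h1, hcard] at hmod
    exact count_mod j hmod.symm
  obtain ⟨v, hv⟩ := hne
  rw [Finset.mem_compl, Equiv.Perm.notMem_support] at hv
  exact ⟨v.1, v.2.1, v.2.2.1, v.2.2.2, congrArg Subtype.val hv⟩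

/-- One step of the reduction. -/
theorem step (j : Fin 3) {g : O Q} (hg : g * g * g = 1) (hf : Fix j.1 g) :
    ∃ k, k ∈ Om ∧ Fix j.1 k ∧ ∃ w, InW (j.1 + 1) w ∧ ∃ g' : O Q, g' * g' * g' = 1 ∧
      Fix (j.1 + 1) g' ∧ k * g * k⁻¹ = eich Q (xx j) w * g' := by
  obtain ⟨v, hv, hq, h0, hfix⟩ := exists_fixed j hg hf
  obtain ⟨k, hk, hkf, a, ha, hkv⟩ := exists_axis j hv hq h0
  set h := k * g * k⁻¹ with hh
  have hh3 : h * h * h = 1 := by
    calc h * h * h = k * (g * g * g) * k⁻¹ := by rw [hh]; group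
      _ = 1 := by rw [hg, mul_one, mul_inv_cancel]
  have hhf : Fix j.1 h := (hkf.mul hf).mul hkf.inv
  have hhx : app h (xx j) = xx j := by
    have : app h (a • xx j) = a • xx j := by
      rw [← hkv, hh, app_mul, app_mul, app_inv_app, hfix]
    rw [map_smul] at this
    exact (smul_right_injective V ha).eq_iff.1 this
  set y' := app h (yy j) with hy'
  have hy'W : InW j.1 y' := hhf.app_mem (inW_yy j)
  have hy'q : qv y' = 0 := by rw [hy', qv_app, qv_yy]
  have hy'b : y' (xi (4 + j.1)) = 1 := by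
    rw [← pol_xx y' j, hy', ← hhx, pol_app, pol_yy_xx]
  set w := mid j y' with hwdef
  have hw : InW (j.1 + 1) w := mid_mem j hy'W
  have hp := pol_xx_of_mem hw
  have hE : app (eich Q (xx j) w) (yy j) = y' := by
    rw [app_eich' (qv_xx j) hp, pol_yy_xx, pol_yy_of_mem hw]
    have hs := qv_split j y'
    rw [hy'q, hy'b, ← hwdef] at hs
    have hqw : qv w = -y' (xi (1 + j.1)) := by linear_combination -hs
    rw [hqw]
    funext i
    simp only [hwdef, mid, hy'b, Pi.add_apply, Pi.sub_apply, Pi.smul_apply, smul_eq_mul]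
    ring
  have hfE := fix_eich (qv_xx j) hp (inW_xx j) (hw.mono (by omega))
  set g' := (eich Q (xx j) w)⁻¹ * h with hg'
  have hEx : app (eich Q (xx j) w) (xx j) = xx j := by
    rw [app_eich' (qv_xx j) hp, pol_xx_self, hp]; simp
  have hg'x : app g' (xx j) = xx j := by
    rw [hg', app_mul, hhx]
    apply app_injective (eich Q (xx j) w)
    rw [app_app_inv, hEx]
  have hg'y : app g' (yy j) = yy j := by
    rw [hg', app_mul, ← hy', ← hE, app_inv_app]
  have hg'f : Fix (j.1 + 1) g' := fun i hi => by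
    rcases Nat.lt_succ_iff_lt_or_eq.1 hi with hi' | hi'
    · exact (hfE.inv.mul hhf) i hi'
    · obtain rfl : i = j := Fin.ext hi'
      exact ⟨hg'x, hg'y⟩
  have hdec : h = eich Q (xx j) w * g' := by rw [hg', mul_inv_cancel_left]
  refine ⟨k, hk, hkf, w, hw, g', ?_, hg'f, hdec⟩
  set w1 := app g' w with hw1
  set w2 := app g' w1 with hw2
  have hW1 : InW (j.1 + 1) w1 := hg'f.app_mem hw
  have hW2 : InW (j.1 + 1) w2 := hg'f.app_mem hW1
  have hp1 := pol_xx_of_mem hW1
  have hp2 := pol_xx_of_mem hW2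
  have c1 : ∀ u, pol (xx j) u = 0 →
      g' * eich Q (xx j) u = eich Q (xx j) (app g' u) * g' := fun u hu => by
    have := eich_conj g' (qv_xx j) hu
    rw [hg'x] at this
    rw [← this, inv_mul_cancel_right]
  have hQx : Q (xx j) = 0 := by rw [Q_eq, qv_xx]
  have hpadd : ∀ a b : V, pol (xx j) a = 0 → pol (xx j) b = 0 → pol (xx j) (a + b) = 0 :=
    fun a b h1 h2 => by
      rw [← polar_eq, polar_add_right, polar_eq, polar_eq, h1, h2, add_zero]
  have e1 : h * h = eich Q (xx j) (w + w1) * (g' * g') := by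
    rw [← eich_add hQx (by rw [polar_eq, hp]) (by rw [polar_eq, hp1]), hdec, mul_assoc,
      ← mul_assoc g', c1 w hp, ← hw1]
    simp only [mul_assoc]
  have e2 : h * h * h = eich Q (xx j) (w + w1 + w2) * (g' * g' * g') := by
    rw [← eich_add hQx (by rw [polar_eq]; exact hpadd _ _ hp hp1) (by rw [polar_eq, hp2]), e1,
      hdec]
    have : g' * g' * eich Q (xx j) w = eich Q (xx j) w2 * (g' * g') := by
      rw [mul_assoc, c1 w hp, ← hw1, ← mul_assoc, c1 w1 hp1, ← hw2, mul_assoc]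
    calc eich Q (xx j) (w + w1) * (g' * g') * (eich Q (xx j) w * g')
        = eich Q (xx j) (w + w1) * (g' * g' * eich Q (xx j) w) * g' := by
          simp only [mul_assoc]
      _ = _ := by rw [this]; simp only [mul_assoc]
  rw [hh3] at e2
  set u := w + w1 + w2 with hu
  have hU : InW (j.1 + 1) u := fun i hi => by
    simp [hu, hw i hi, hW1 i hi, hW2 i hi]
  have hgy : app (g' * g' * g') (yy j) = yy j := by
    rw [app_mul, app_mul, hg'y, hg'y, hg'y]
  have key : app (eich Q (xx j) u) (yy j) = yy j := by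
    have := congrArg (fun z => app z (yy j)) e2
    simpa [app_mul, hg'y] using this.symm
  rw [app_eich' (qv_xx j) (pol_xx_of_mem hU), pol_yy_xx, pol_yy_of_mem hU, add_assoc,
    add_eq_left, one_smul, neg_zero, zero_sub, mul_one] at key
  have hu0 : u = 0 := by
    have hc := congrFun key (xi (1 + j.1))
    have h1 := xx_coord j
    simp only [Pi.add_apply, Pi.smul_apply, smul_eq_mul, (hU j (by omega)).1, h1, Pi.zero_apply,
      mul_one, zero_add] at hc
    rwa [hc, zero_smul, add_zero] at key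
  rw [hu0] at e2
  have hone : eich Q (xx j) (0 : V) = 1 := by
    have := eich_smul_self hQx (0 : ZMod 3)
    rwa [zero_smul] at this
  rw [hone, one_mul] at e2
  exact e2.symm

/-- The three-factor normal form. -/
theorem exists_normal_form {g : O Q} (hg : g * g * g = 1) :
    ∃ w₀ w₁ w₂ : V, InW 1 w₀ ∧ InW 2 w₁ ∧ InW 3 w₂ ∧
      siegel (xx 1) w₁ * siegel (xx 2) w₂ * (siegel (xx 1) w₁ * siegel (xx 2) w₂) *
        (siegel (xx 1) w₁ * siegel (xx 2) w₂) = 1 ∧
      Rel (mat g) (siegel (xx 0) w₀ * (siegel (xx 1) w₁ * siegel (xx 2) w₂)) := by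
  obtain ⟨k₀, hk₀, -, w₀, hw₀, g₁, hg₁, hf₁, d₀⟩ := step 0 hg (fix_zero g)
  obtain ⟨k₁, hk₁, hkf₁, w₁, hw₁, g₂, hg₂, hf₂, d₁⟩ := step 1 hg₁ hf₁
  obtain ⟨k₂, hk₂, hkf₂, w₂, hw₂, g₃, hg₃, hf₃, d₂⟩ := step 2 hg₂ hf₂
  have hg3 : g₃ = 1 := by
    refine ext_app fun x => ?_
    have hz : app g₃ (e 0) = e 0 := by
      have hW : InW 3 (app g₃ (e 0)) := hf₃.app_mem (by decide)
      have hform : app g₃ (e 0) = app g₃ (e 0) (xi 0) • e 0 := by
        funext i
        rcases i with u | t | t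
        · simp [e, ix, xi]
        · have := (hW t t.2).1
          fin_cases t <;> simpa [e, ix, xi] using this
        · have := (hW t t.2).2
          fin_cases t <;> simpa [e, ix, xi] using this
      set c := app g₃ (e 0) (xi 0)
      have h3 : app (g₃ * g₃ * g₃) (e 0) = e 0 := by rw [hg₃, app_one]
      rw [app_mul, app_mul, hform, map_smul, hform, smul_smul, map_smul, hform, smul_smul] at h3
      have h3' := congrFun h3 (xi 0)
      have he : e 0 (xi 0) = 1 := by decide
      rw [Pi.smul_apply, smul_eq_mul, he, mul_one] at h3'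
      have : c = 1 := (by decide : ∀ c : ZMod 3, c * c * c = 1 → c = 1) c h3'
      rw [hform, this, one_smul]
    have hall : ∀ i : I, app g₃ (e (ix i)) = e (ix i) := by
      intro i
      rcases i with u | t | t
      · exact hz
      · exact (hf₃ t t.2).1
      · exact (hf₃ t t.2).2
    rw [app_one]
    have : app g₃ = LinearMap.id :=
      (Pi.basisFun (ZMod 3) I).ext fun i => by
        rw [Pi.basisFun_apply, ← e_eq_single]; exact hall i
    rw [this]; rfl
  rw [hg3, mul_one] at d₂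
  set K := k₂ * k₁ with hK
  have hKf : Fix 1 K := (hkf₂.mono (by decide : 1 ≤ 2)).mul hkf₁
  have hKx : app K (xx 0) = xx 0 := (hKf 0 (by decide)).1
  have hk2x : app k₂ (xx 1) = xx 1 := (hkf₂ 1 (by decide)).1
  have hp0 := pol_xx_of_mem (j := 0) hw₀
  have hp1 := pol_xx_of_mem (j := 1) hw₁
  have hW0 : InW 1 (app K w₀) := hKf.app_mem hw₀
  have hW1 : InW 2 (app k₂ w₁) := hkf₂.app_mem hw₁
  refine ⟨app K w₀, app k₂ w₁, w₂, hW0, hW1, hw₂, ?_⟩
  have c0 : K * eich Q (xx 0) w₀ * K⁻¹ = eich Q (xx 0) (app K w₀) := by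
    rw [eich_conj K (qv_xx 0) hp0, hKx]
  have c1 : k₂ * eich Q (xx 1) w₁ * k₂⁻¹ = eich Q (xx 1) (app k₂ w₁) := by
    rw [eich_conj k₂ (qv_xx 1) hp1, hk2x]
  have main : (K * k₀) * g * (K * k₀)⁻¹ =
      eich Q (xx 0) (app K w₀) * (eich Q (xx 1) (app k₂ w₁) * eich Q (xx 2) w₂) := by
    calc (K * k₀) * g * (K * k₀)⁻¹ = K * (k₀ * g * k₀⁻¹) * K⁻¹ := by group
      _ = (K * eich Q (xx 0) w₀ * K⁻¹) * (k₂ * (k₁ * g₁ * k₁⁻¹) * k₂⁻¹) := by
        rw [d₀, hK]; group
      _ = (K * eich Q (xx 0) w₀ * K⁻¹) *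
          ((k₂ * eich Q (xx 1) w₁ * k₂⁻¹) * (k₂ * g₂ * k₂⁻¹)) := by
        rw [d₁]; group
      _ = _ := by rw [c0, c1, d₂]
  have inner : eich Q (xx 1) (app k₂ w₁) * eich Q (xx 2) w₂ = K * g₁ * K⁻¹ := by
    rw [← c1, ← d₂]
    calc k₂ * eich Q (xx 1) w₁ * k₂⁻¹ * (k₂ * g₂ * k₂⁻¹) = k₂ * (eich Q (xx 1) w₁ * g₂) * k₂⁻¹ := by
          group
      _ = k₂ * (k₁ * g₁ * k₁⁻¹) * k₂⁻¹ := by rw [d₁]
      _ = K * g₁ * K⁻¹ := by rw [hK]; group
  refine ⟨?_, ?_⟩
  · rw [← mat_eich (qv_xx 1) (pol_xx_of_mem hW1), ← mat_eich (qv_xx 2) (pol_xx_of_mem hw₂),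
      ← mat_mul, inner, ← mat_mul, ← mat_mul]
    calc mat (K * g₁ * K⁻¹ * (K * g₁ * K⁻¹) * (K * g₁ * K⁻¹)) = mat (K * (g₁ * g₁ * g₁) * K⁻¹) := by
          group
      _ = 1 := by rw [hg₁, mul_one, mul_inv_cancel, mat_one]
  have h := rel_conj (K * k₀) g (mul_mem (mul_mem hk₂ hk₁) hk₀)
  rwa [main, mat_mul, mat_mul, mat_eich (qv_xx 0) (pol_xx_of_mem hW0),
    mat_eich (qv_xx 1) (pol_xx_of_mem hW1),
    mat_eich (qv_xx 2) (pol_xx_of_mem hw₂)] at h

end CfsgLib.Omega73
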