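import Cfsg.Agent.Lib.OmegaSevenThree.Flag

/-!
Evaluation of the vector operations on codes, for fast kernel checks.
-/

set_option autoImplicit false

namespace CfsgLib.Omega73

open Matrix

/-- A digit. -/
def dig (c k : ℕ) : ℕ := c / 3 ^ k % 3

/-- An entry of a matrix times a vector. -/
def row (c r n : ℕ) : ℕ :=
  (dig c (7 * r) * dig n 0 + dig c (7 * r + 1) * dig n 1 + dig c (7 * r + 2) * dig n 2 +
    dig c (7 * r + 3) * dig n 3 + dig c (7 * r + 4) * dig n 4 + dig c (7 * r + 5) * dig n 5 +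
    dig c (7 * r + 6) * dig n 6) % 3

/-- The code of a matrix times a vector. -/
def mulN (c n : ℕ) : ℕ :=
  row c 0 n + 3 * row c 1 n + 9 * row c 2 n + 27 * row c 3 n + 81 * row c 4 n + 243 * row c 5 n +
    729 * row c 6 n

/-- The value of the form on a code. -/
def qN (n : ℕ) : ℕ :=
  (dig n 0 * dig n 0 + dig n 1 * dig n 4 + dig n 2 * dig n 5 + dig n 3 * dig n 6) % 3

/-- The polar form on codes. -/
def polN (n m : ℕ) : ℕ :=
  (2 * dig n 0 * dig m 0 + dig n 1 * dig m 4 + dig n 4 * dig m 1 + dig n 2 * dig m 5 +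
    dig n 5 * dig m 2 + dig n 3 * dig m 6 + dig n 6 * dig m 3) % 3

theorem vec_apply (n : ℕ) (i : I) : vec n i = ((dig n (ix i) : ℕ) : ZMod 3) := rfl

theorem enc_apply (c : ℕ) (i j : I) : enc c i j = ((dig c (7 * ix i + ix j) : ℕ) : ZMod 3) := rfl

theorem mulVec_apply_eq (c n : ℕ) (i : I) :
    (enc c *ᵥ vec n) i = ((row c (ix i) n : ℕ) : ZMod 3) := by
  simp only [Matrix.mulVec, dotProduct, Fintype.sum_sum_type, Finset.univ_unique,
    Finset.sum_singleton, Fin.sum_univ_three, enc_apply, vec_apply, row, ix, ZMod.natCast_mod,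
    Nat.cast_add, Nat.cast_mul]
  norm_num
  ring

theorem vec_mulN (c n : ℕ) : vec (mulN c n) = enc c *ᵥ vec n := by
  funext i
  rw [mulVec_apply_eq, vec_apply]
  congr 1
  have hr : ∀ r, row c r n < 3 := fun r => Nat.mod_lt _ (by norm_num)
  have := hr 0; have := hr 1; have := hr 2; have := hr 3; have := hr 4; have := hr 5; have := hr 6
  have h7 : ∀ k < 7, dig (mulN c n) k = row c k n := by
    intro k hk
    unfold dig mulN
    interval_cases k <;> norm_num <;> omega
  have hlt : ∀ i : I, ix i < 7 := by decide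
  exact h7 _ (hlt i)

theorem mulN_lt (c n : ℕ) : mulN c n < 2187 := by
  have hr : ∀ r, row c r n < 3 := fun r => Nat.mod_lt _ (by norm_num)
  have := hr 0; have := hr 1; have := hr 2; have := hr 3; have := hr 4; have := hr 5; have := hr 6
  unfold mulN
  omega

theorem qv_vec (n : ℕ) : qv (vec n) = ((qN n : ℕ) : ZMod 3) := by
  simp only [qv, qN, vec_apply, xi, ix, ZMod.natCast_mod, Nat.cast_add, Nat.cast_mul]
  norm_num

theorem pol_vec (n m : ℕ) : pol (vec n) (vec m) = ((polN n m : ℕ) : ZMod 3) := by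
  simp only [pol, polN, vec_apply, xi, ix, ZMod.natCast_mod, Nat.cast_add, Nat.cast_mul]
  norm_num

theorem cast_eq_iff {a b : ℕ} (ha : a < 3) (hb : b < 3) : ((a : ZMod 3) = (b : ZMod 3)) ↔ a = b := by
  rw [ZMod.natCast_eq_natCast_iff', Nat.mod_eq_of_lt ha, Nat.mod_eq_of_lt hb]

theorem qN_lt (n : ℕ) : qN n < 3 := Nat.mod_lt _ (by norm_num)

theorem polN_lt (n m : ℕ) : polN n m < 3 := Nat.mod_lt _ (by norm_num)

theorem vec_eq_iff {a b : ℕ} (ha : a < 2187) (hb : b < 2187) : vec a = vec b ↔ a = b :=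
  ⟨fun h => by rw [← code_vec ha, h, code_vec hb], fun h => h ▸ rfl⟩

end CfsgLib.Omega73
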