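import Cfsg.Agent.Lib.OmegaSevenThree.Checks
import Cfsg.Agent.Lib.OmegaSevenThree.NatEval

/-!
Counting invariants separating the classes of elements of order three of `Ω₇(3)`.
-/

set_option autoImplicit false
set_option maxHeartbeats 0
set_option maxRecDepth 100000

namespace CfsgLib.Omega73

open Matrix QuadraticMap CfsgLib.Orth

/-- The square of a representative. -/
def repSq (i : ℕ) : Mat := enc (Data.repSq.getD i 0)

/-- Fixed vectors of value one. -/
def FixOne (A : Mat) (v : V) : Prop := A *ᵥ v = v ∧ qv v = 1

/-- Vectors with `f(v, A v + A² v) = 1 - f(v, v)`, in terms of `A` and `B = A²`. -/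
def MovOne (A B : Mat) (v : V) : Prop := pol v (B *ᵥ v) + pol v (A *ᵥ v) + pol v v = 1

instance decFixOne (A : Mat) (v : V) : Decidable (FixOne A v) := by unfold FixOne; infer_instance

instance decMovOne (A B : Mat) (v : V) : Decidable (MovOne A B v) := by unfold MovOne; infer_instance

/-- The tabulated invariant. -/
def invOf (i : ℕ) : ℕ × ℕ := Data.inv.getD i (0, 0)

theorem repSq_eq : ∀ i < 8, rep i * rep i = repSq i := by decide +kernel

/-- `FixOne` on codes. -/
def fixB (c n : ℕ) : Bool := Nat.beq (mulN c n) n && Nat.beq (qN n) 1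

/-- `MovOne` on codes. -/
def movB (c s n : ℕ) : Bool :=
  Nat.beq ((polN n (mulN s n) + polN n (mulN c n) + polN n n) % 3) 1

theorem fixB_iff (c : ℕ) {n : ℕ} (hn : n < 2187) :
    decide (FixOne (enc c) (vec n)) = fixB c n := by
  rw [Bool.eq_iff_iff, decide_eq_true_iff, fixB, Bool.and_eq_true, Nat.beq_eq, Nat.beq_eq, FixOne,
    ← vec_mulN, vec_eq_iff (mulN_lt c n) hn, qv_vec]
  rw [← cast_eq_iff (qN_lt n) (by norm_num : 1 < 3), Nat.cast_one]

theorem movB_iff (c s n : ℕ) :
    decide (MovOne (enc c) (enc s) (vec n)) = movB c s n := by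
  rw [Bool.eq_iff_iff, decide_eq_true_iff, movB, Nat.beq_eq, MovOne, ← vec_mulN, ← vec_mulN,
    pol_vec, pol_vec, pol_vec, ← cast_eq_iff (Nat.mod_lt _ (by norm_num)) (by norm_num : 1 < 3),
    Nat.cast_one, ZMod.natCast_mod, Nat.cast_add, Nat.cast_add]

theorem fix_count_0 : ((List.range 2187).filter (fixB (Data.rep.getD 0 0))).length =
    (invOf 0).1 := by decide +kernel

theorem mov_count_0 : ((List.range 2187).filter (movB (Data.rep.getD 0 0)
    (Data.repSq.getD 0 0))).length = (invOf 0).2 := by decide +kernel

theorem fix_count_1 : ((List.range 2187).filter (fixB (Data.rep.getD 1 0))).length =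
    (invOf 1).1 := by decide +kernel

theorem mov_count_1 : ((List.range 2187).filter (movB (Data.rep.getD 1 0)
    (Data.repSq.getD 1 0))).length = (invOf 1).2 := by decide +kernel

theorem fix_count_2 : ((List.range 2187).filter (fixB (Data.rep.getD 2 0))).length =
    (invOf 2).1 := by decide +kernel

theorem mov_count_2 : ((List.range 2187).filter (movB (Data.rep.getD 2 0)
    (Data.repSq.getD 2 0))).length = (invOf 2).2 := by decide +kernel

theorem fix_count_3 : ((List.range 2187).filter (fixB (Data.rep.getD 3 0))).length =
    (invOf 3).1 := by decide +kernel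

theorem mov_count_3 : ((List.range 2187).filter (movB (Data.rep.getD 3 0)
    (Data.repSq.getD 3 0))).length = (invOf 3).2 := by decide +kernel

theorem fix_count_4 : ((List.range 2187).filter (fixB (Data.rep.getD 4 0))).length =
    (invOf 4).1 := by decide +kernel

theorem mov_count_4 : ((List.range 2187).filter (movB (Data.rep.getD 4 0)
    (Data.repSq.getD 4 0))).length = (invOf 4).2 := by decide +kernel

theorem fix_count_5 : ((List.range 2187).filter (fixB (Data.rep.getD 5 0))).length =
    (invOf 5).1 := by decide +kernel

theorem mov_count_5 : ((List.range 2187).filter (movB (Data.rep.getD 5 0)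
    (Data.repSq.getD 5 0))).length = (invOf 5).2 := by decide +kernel

theorem fix_count_6 : ((List.range 2187).filter (fixB (Data.rep.getD 6 0))).length =
    (invOf 6).1 := by decide +kernel

theorem mov_count_6 : ((List.range 2187).filter (movB (Data.rep.getD 6 0)
    (Data.repSq.getD 6 0))).length = (invOf 6).2 := by decide +kernel

theorem fix_count_7 : ((List.range 2187).filter (fixB (Data.rep.getD 7 0))).length =
    (invOf 7).1 := by decide +kernel

theorem mov_count_7 : ((List.range 2187).filter (movB (Data.rep.getD 7 0)
    (Data.repSq.getD 7 0))).length = (invOf 7).2 := by decide +kernel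

theorem count_fix : ∀ i < 8, ((List.range 2187).filter fun n =>
    decide (FixOne (rep i) (vec n))).length = (invOf i).1 := by
  intro i hi
  refine (congrArg List.length (List.filter_congr (q := fixB (Data.rep.getD i 0))
    fun n hn => fixB_iff (Data.rep.getD i 0) (List.mem_range.1 hn))).trans ?_
  interval_cases i
  · exact fix_count_0
  · exact fix_count_1
  · exact fix_count_2
  · exact fix_count_3
  · exact fix_count_4
  · exact fix_count_5
  · exact fix_count_6
  · exact fix_count_7

theorem count_mov : ∀ i < 8, ((List.range 2187).filter fun n =>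
    decide (MovOne (rep i) (repSq i) (vec n))).length = (invOf i).2 := by
  intro i hi
  refine (congrArg List.length (List.filter_congr
    (q := movB (Data.rep.getD i 0) (Data.repSq.getD i 0))
    fun n _ => movB_iff (Data.rep.getD i 0) (Data.repSq.getD i 0) n)).trans ?_
  interval_cases i
  · exact mov_count_0
  · exact mov_count_1
  · exact mov_count_2
  · exact mov_count_3
  · exact mov_count_4
  · exact mov_count_5
  · exact mov_count_6
  · exact mov_count_7

theorem card_eq_length (P : V → Prop) [DecidablePred P] :
    Nat.card {v : V // P v} = ((List.range 2187).filter fun n => decide (P (vec n))).length := by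
  rw [Nat.card_eq_fintype_card, Fintype.card_subtype,
    ← List.toFinset_card_of_nodup (List.nodup_range.filter _)]
  refine Finset.card_bij (fun v _ => code v) ?_ (fun v _ w _ h => vec_inj_code v w h) ?_
  · intro v hv
    rw [List.mem_toFinset, List.mem_filter, List.mem_range]
    refine ⟨code_lt v, ?_⟩
    simpa [vec_code] using hv
  · intro n hn
    rw [List.mem_toFinset, List.mem_filter, List.mem_range] at hn
    exact ⟨vec n, by simpa using hn.2, code_vec hn.1⟩

/-- An isometry preserves counts of vectors. -/
theorem card_congr (k : O Q) (P P' : V → Prop) (h : ∀ v, P v ↔ P' (app k v)) :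
    Nat.card {v : V // P v} = Nat.card {v : V // P' v} :=
  Nat.card_congr
    { toFun := fun v => ⟨app k v.1, (h v.1).1 v.2⟩
      invFun := fun v => ⟨app k⁻¹ v.1, (h _).2 (by rw [app_app_inv]; exact v.2)⟩
      left_inv := fun v => Subtype.ext (app_inv_app k v.1)
      right_inv := fun v => Subtype.ext (app_app_inv k v.1) }

theorem inv_eq_of_rel {i j : ℕ} (hi : i < 8) (hj : j < 8) (h : Rel (rep i) (rep j)) :
    invOf i = invOf j := by
  obtain ⟨M, ⟨k, -, rfl⟩, h⟩ := h
  have h2 : mat k * repSq i = repSq j * mat k := by
    rw [← repSq_eq i hi, ← repSq_eq j hj, ← mul_assoc, h, mul_assoc, h, ← mul_assoc]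
  have key : ∀ A B : Mat, mat k * A = B * mat k → ∀ v : V, B *ᵥ app k v = app k (A *ᵥ v) := by
    intro A B hAB v
    rw [app_eq_mulVec, app_eq_mulVec, mulVec_mulVec, mulVec_mulVec, hAB]
  refine Prod.ext ?_ ?_
  · rw [← count_fix i hi, ← count_fix j hj, ← card_eq_length, ← card_eq_length]
    refine card_congr k _ _ fun v => ?_
    rw [FixOne, FixOne, key _ _ h, qv_app, (app_injective k).eq_iff]
  · rw [← count_mov i hi, ← count_mov j hj, ← card_eq_length, ← card_eq_length]
    refine card_congr k _ _ fun v => ?_
    rw [MovOne, MovOne, key _ _ h, key _ _ h2, pol_app, pol_app, pol_app]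

theorem inv_separates : ∀ i < 8, ∀ j < 8, invOf i = invOf j →
    i = j ∨ (i = 6 ∧ j = 7) ∨ (i = 7 ∧ j = 6) := by decide

end CfsgLib.Omega73
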