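import Cfsg.Agent.Lib.OmegaSevenThree.Invariants

/-!
The two representatives with equal invariants are not conjugate in `Ω₇(3)`: the centraliser in the
orthogonal group is generated by `-1` and elements of `Ω₇(3)`.
-/

set_option autoImplicit false
set_option maxHeartbeats 0
set_option maxRecDepth 100000

namespace CfsgLib.Omega73

open Matrix QuadraticMap CfsgLib.Orth

/-- The element to centralise. -/
def R6 : Mat := rep 6

/-- Its square. -/
def S6 : Mat := repSq 6

/-- The targets of the stages. -/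
def tgt (s : ℕ) : V := e (6 - s)

/-- The invariant property of the first target. -/
def Cand0 (v : V) : Prop :=
  qv v = qv (tgt 0) ∧ pol v (R6 *ᵥ v) = pol (tgt 0) (R6 *ᵥ tgt 0) ∧
    pol v (S6 *ᵥ v) = pol (tgt 0) (S6 *ᵥ tgt 0)

/-- The invariant property of the second target. -/
def Cand1 (v : V) : Prop :=
  qv v = qv (tgt 1) ∧ pol v (tgt 0) = 0 ∧ pol v (R6 *ᵥ tgt 0) = 0 ∧ pol v (S6 *ᵥ tgt 0) = 0 ∧
    R6 *ᵥ v ≠ v ∧ pol v (R6 *ᵥ v) = pol (tgt 1) (R6 *ᵥ tgt 1)

/-- The invariant property of the third target. -/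
def Cand2 (v : V) : Prop :=
  qv v = qv (tgt 2) ∧ pol v (tgt 0) = 0 ∧ pol v (R6 *ᵥ tgt 0) = 0 ∧ pol v (S6 *ᵥ tgt 0) = 0 ∧
    R6 *ᵥ v ≠ v ∧ pol v (R6 *ᵥ v) = pol (tgt 2) (R6 *ᵥ tgt 2) ∧
    pol v (tgt 1) = pol (tgt 2) (tgt 1) ∧ pol v (R6 *ᵥ tgt 1) = pol (tgt 2) (R6 *ᵥ tgt 1)

instance decCand0 (v : V) : Decidable (Cand0 v) := by unfold Cand0; infer_instance
instance decCand1 (v : V) : Decidable (Cand1 v) := by unfold Cand1; infer_instance
instance decCand2 (v : V) : Decidable (Cand2 v) := by unfold Cand2; infer_instance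

theorem tgt_cand : Cand0 (tgt 0) ∧ Cand1 (tgt 1) ∧ Cand2 (tgt 2) := by decide +kernel

/-- The forest of a stage. -/
def forest (s : ℕ) : List (ℕ × ℕ × ℕ × ℕ) := Data.stages.getD s []

/-- The generators of a stage. -/
def sgen (s g : ℕ) : ℕ := (Data.stageGens.getD s []).getD g 0

/-- The check for one entry. -/
def NodeOk (s p : ℕ) : Prop :=
  let d := (forest s).getD p (0, 0, 0, 0)
  if d.2.1 = 0 then vec d.1 = tgt s ∨ (s = 0 ∧ vec d.1 = -tgt s)
  else d.2.2.1 < p ∧ d.2.2.2 < (Data.stageGens.getD s []).length ∧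
    word (sgen s d.2.2.2) *ᵥ vec d.1 = vec ((forest s).getD d.2.2.1 (0, 0, 0, 0)).1

instance decNodeOk (s p : ℕ) : Decidable (NodeOk s p) := by unfold NodeOk; infer_instance

theorem node_ok : ∀ s < 3, ∀ p < (forest s).length, NodeOk s p := by decide +kernel

/-- The check for a generator. -/
def SGenOk (s g : ℕ) : Prop :=
  sgen s g < 192 ∧ word (sgen s g) * R6 = R6 * word (sgen s g) ∧
    (1 ≤ s → word (sgen s g) *ᵥ tgt 0 = tgt 0) ∧ (2 ≤ s → word (sgen s g) *ᵥ tgt 1 = tgt 1)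

instance decSGenOk (s g : ℕ) : Decidable (SGenOk s g) := by unfold SGenOk; infer_instance

theorem sgen_ok : ∀ s < 3, ∀ g < (Data.stageGens.getD s []).length, SGenOk s g := by
  decide +kernel

/-- The code of a target. -/
def tN (s : ℕ) : ℕ := 3 ^ (6 - s)

theorem vec_tN : ∀ s < 3, vec (tN s) = tgt s := by decide

/-- The code of `R6`. -/
def cR : ℕ := Data.rep.getD 6 0

/-- The code of `S6`. -/
def cS : ℕ := Data.repSq.getD 6 0

/-- The conditions common to the last two stages. -/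
def midB (s n : ℕ) : Bool :=
  Nat.beq (qN n) (qN (tN s)) && Nat.beq (polN n (tN 0)) 0 && Nat.beq (polN n (mulN cR (tN 0))) 0 &&
    Nat.beq (polN n (mulN cS (tN 0))) 0 && !(Nat.beq (mulN cR n) n) &&
    Nat.beq (polN n (mulN cR n)) (polN (tN s) (mulN cR (tN s)))

/-- `Cand0` on codes. -/
def cand0B (n : ℕ) : Bool :=
  Nat.beq (qN n) (qN (tN 0)) && Nat.beq (polN n (mulN cR n)) (polN (tN 0) (mulN cR (tN 0))) &&
    Nat.beq (polN n (mulN cS n)) (polN (tN 0) (mulN cS (tN 0)))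

/-- `Cand2` on codes. -/
def cand2B (n : ℕ) : Bool :=
  midB 2 n && Nat.beq (polN n (tN 1)) (polN (tN 2) (tN 1)) &&
    Nat.beq (polN n (mulN cR (tN 1))) (polN (tN 2) (mulN cR (tN 1)))

/-- Membership in a forest on codes. -/
def inForest (s n : ℕ) : Bool := ((forest s).map fun d => d.1).any (Nat.beq n)

theorem mem_of_inForest {s n : ℕ} (h : inForest s n = true) :
    n ∈ (forest s).map (fun d => d.1) := by
  obtain ⟨m, hm, he⟩ := List.any_eq_true.1 h
  rw [Nat.beq_eq] at he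
  rwa [he]

theorem cover0_check : ((List.range 2187).filter cand0B).all (inForest 0) = true := by
  decide +kernel

theorem cover1_check : ((List.range 2187).filter (midB 1)).all (inForest 1) = true := by
  decide +kernel

theorem cover2_check : ((List.range 2187).filter cand2B).all (inForest 2) = true := by
  decide +kernel

theorem cover_of_check {s : ℕ} {f : ℕ → Bool}
    (h : ((List.range 2187).filter f).all (inForest s) = true) {n : ℕ} (hn : n < 2187)
    (hf : f n = true) : n ∈ (forest s).map (fun d => d.1) :=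
  mem_of_inForest (List.all_eq_true.1 h n (List.mem_filter.2 ⟨List.mem_range.2 hn, hf⟩))

theorem polN_eq {a b c d : ℕ} (h : pol (vec a) (vec b) = pol (vec c) (vec d)) :
    polN a b = polN c d := by
  rw [pol_vec, pol_vec] at h
  exact (cast_eq_iff (polN_lt _ _) (polN_lt _ _)).1 h

theorem polN_zero {a b : ℕ} (h : pol (vec a) (vec b) = 0) : polN a b = 0 := by
  rw [pol_vec, ← Nat.cast_zero] at h
  exact (cast_eq_iff (polN_lt _ _) (by norm_num)).1 h

theorem qN_eq {a b : ℕ} (h : qv (vec a) = qv (vec b)) : qN a = qN b := by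
  rw [qv_vec, qv_vec] at h
  exact (cast_eq_iff (qN_lt _) (qN_lt _)).1 h

theorem R6_vec (n : ℕ) : R6 *ᵥ vec n = vec (mulN cR n) := (vec_mulN cR n).symm

theorem S6_vec (n : ℕ) : S6 *ᵥ vec n = vec (mulN cS n) := (vec_mulN cS n).symm

theorem cover0 : ∀ n < 2187, Cand0 (vec n) → n ∈ (forest 0).map (fun d => d.1) := by
  intro n hn h
  obtain ⟨a1, a2, a3⟩ := h
  rw [← vec_tN 0 (by norm_num)] at a1 a2 a3
  rw [R6_vec, R6_vec] at a2
  rw [S6_vec, S6_vec] at a3
  refine cover_of_check cover0_check hn ?_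
  simp [cand0B, qN_eq a1, polN_eq a2, polN_eq a3]

theorem midB_of {s n : ℕ} (hs : s < 3) (hn : n < 2187)
    (a1 : qv (vec n) = qv (tgt s)) (a2 : pol (vec n) (tgt 0) = 0)
    (a3 : pol (vec n) (R6 *ᵥ tgt 0) = 0) (a4 : pol (vec n) (S6 *ᵥ tgt 0) = 0)
    (a5 : R6 *ᵥ vec n ≠ vec n)
    (a6 : pol (vec n) (R6 *ᵥ vec n) = pol (tgt s) (R6 *ᵥ tgt s)) : midB s n = true := by
  rw [← vec_tN 0 (by norm_num)] at a2 a3 a4
  rw [← vec_tN s hs] at a1 a6
  rw [R6_vec] at a3 a5
  rw [S6_vec] at a4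
  rw [R6_vec, R6_vec] at a6
  rw [Ne, vec_eq_iff (mulN_lt _ _) hn] at a5
  have a5' : Nat.beq (mulN cR n) n = false := by
    rw [← Bool.not_eq_true, Nat.beq_eq]; exact a5
  simp [midB, qN_eq a1, polN_zero a2, polN_zero a3, polN_zero a4, polN_eq a6, a5']

theorem cover1 : ∀ n < 2187, Cand1 (vec n) → n ∈ (forest 1).map (fun d => d.1) := by
  intro n hn h
  obtain ⟨a1, a2, a3, a4, a5, a6⟩ := h
  exact cover_of_check cover1_check hn (midB_of (by norm_num) hn a1 a2 a3 a4 a5 a6)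

theorem cover2 : ∀ n < 2187, Cand2 (vec n) → n ∈ (forest 2).map (fun d => d.1) := by
  intro n hn h
  obtain ⟨a1, a2, a3, a4, a5, a6, a7, a8⟩ := h
  refine cover_of_check cover2_check hn ?_
  have hm := midB_of (by norm_num) hn a1 a2 a3 a4 a5 a6
  rw [← vec_tN 1 (by norm_num), ← vec_tN 2 (by norm_num)] at a7 a8
  rw [R6_vec] at a8
  simp [cand2B, hm, polN_eq a7, polN_eq a8]

/-- The spanning matrix. -/
def spanMat : Mat := Matrix.of fun i j =>
  ([tgt 0, R6 *ᵥ tgt 0, S6 *ᵥ tgt 0, tgt 1, R6 *ᵥ tgt 1, tgt 2, R6 *ᵥ tgt 2].getD (ix j) 0) i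

theorem span_inv : spanMat * enc Data.spanInv = 1 := by decide +kernel

/-- Reduction along the forest. -/
theorem forest_root (s : ℕ) (hs : s < 3) : ∀ p < (forest s).length,
    ∃ k : O Q, k ∈ Om ∧ mat k * R6 = R6 * mat k ∧ (1 ≤ s → app k (tgt 0) = tgt 0) ∧
      (2 ≤ s → app k (tgt 1) = tgt 1) ∧
      (app k (vec ((forest s).getD p (0, 0, 0, 0)).1) = tgt s ∨
        (s = 0 ∧ app k (vec ((forest s).getD p (0, 0, 0, 0)).1) = -tgt s)) := by
  intro p
  induction p using Nat.strong_induction_on with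
  | _ p ih =>
    intro hp
    have h := node_ok s hs p hp
    unfold NodeOk at h
    by_cases h0 : ((forest s).getD p (0, 0, 0, 0)).2.1 = 0
    · rw [if_pos h0] at h
      exact ⟨1, one_mem _, by rw [mat_one, one_mul, mul_one], fun _ => app_one _,
        fun _ => app_one _, by simpa [app_one] using h⟩
    · rw [if_neg h0] at h
      obtain ⟨hq, hg, heq⟩ := h
      obtain ⟨k, hk, hcomm, hf0, hf1, hk'⟩ := ih _ hq (lt_trans hq hp)
      obtain ⟨hw, hwc, hw0, hw1⟩ := sgen_ok s hs _ hg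
      obtain ⟨l, hl, hlm⟩ := word_inOm _ hw
      have hl' : app l (vec ((forest s).getD p (0, 0, 0, 0)).1) =
          vec ((forest s).getD ((forest s).getD p (0, 0, 0, 0)).2.2.1 (0, 0, 0, 0)).1 := by
        rw [app_eq_mulVec, hlm, heq]
      refine ⟨k * l, mul_mem hk hl, ?_, fun h1 => ?_, fun h2 => ?_, ?_⟩
      · rw [mat_mul, mul_assoc, hlm, hwc, ← mul_assoc, hcomm, mul_assoc]
      · rw [app_mul, app_eq_mulVec l, hlm, hw0 h1, hf0 h1]
      · rw [app_mul, app_eq_mulVec l, hlm, hw1 h2, hf1 h2]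
      · rwa [app_mul, hl']

theorem stage {s : ℕ} (hs : s < 3) {P : V → Prop}
    (hcov : ∀ n < 2187, P (vec n) → n ∈ (forest s).map (fun d => d.1)) {v : V} (hv : P v) :
    ∃ k : O Q, k ∈ Om ∧ mat k * R6 = R6 * mat k ∧ (1 ≤ s → app k (tgt 0) = tgt 0) ∧
      (2 ≤ s → app k (tgt 1) = tgt 1) ∧
      (app k v = tgt s ∨ (s = 0 ∧ app k v = -tgt s)) := by
  have h := hcov (code v) (code_lt v) (by rwa [vec_code])
  rw [List.mem_map] at h
  obtain ⟨d, hd, hdv⟩ := h
  obtain ⟨p, hp, hpd⟩ := List.mem_iff_getElem.1 hd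
  have key := forest_root s hs p hp
  have hget : (forest s).getD p (0, 0, 0, 0) = d := by
    rw [List.getD_eq_getElem _ _ hp, hpd]
  rwa [hget, hdv, vec_code] at key

theorem mat_neg_mem : ∃ j : O Q, mat j = -1 := by
  let u : GL I (ZMod 3) := ⟨-1, -1, by simp, by simp⟩
  refine ⟨⟨u, fun x _ => ?_⟩, rfl⟩
  show Q ((-1 : Mat) *ᵥ x) = Q x
  rw [neg_mulVec, one_mulVec, QuadraticMap.map_neg]

theorem comm_app {c : O Q} (hc : mat c * R6 = R6 * mat c) (v : V) :
    R6 *ᵥ app c v = app c (R6 *ᵥ v) := by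
  rw [app_eq_mulVec, app_eq_mulVec, mulVec_mulVec, mulVec_mulVec, hc]

theorem comm_app_sq {c : O Q} (hc : mat c * R6 = R6 * mat c) (v : V) :
    S6 *ᵥ app c v = app c (S6 *ᵥ v) := by
  have h : mat c * S6 = S6 * mat c := by
    rw [S6, ← repSq_eq 6 (by decide), ← R6.eq_def, ← mul_assoc, hc, mul_assoc, hc, ← mul_assoc]
  rw [app_eq_mulVec, app_eq_mulVec, mulVec_mulVec, mulVec_mulVec, h]

/-- **The centraliser.** -/
theorem centralizer_R6 (c : O Q) (hc : mat c * R6 = R6 * mat c) :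
    ∃ k : O Q, k ∈ Om ∧ (mat c = mat k ∨ mat c = -mat k) := by
  obtain ⟨J, hJ⟩ := mat_neg_mem
  obtain ⟨t0, t1, t2⟩ := tgt_cand
  have hP0 : Cand0 (app c (tgt 0)) := by
    obtain ⟨a1, a2, a3⟩ := t0
    exact ⟨by rw [qv_app, a1], by rw [comm_app hc, pol_app, a2],
      by rw [comm_app_sq hc, pol_app, a3]⟩
  obtain ⟨k0, hk0, hc0, -, -, hv0⟩ := stage (s := 0) (by decide) cover0 hP0
  obtain ⟨ε, hε, c0, hc0m, hc0c, hc0v⟩ : ∃ ε : ZMod 3, (ε = 1 ∨ ε = -1) ∧ ∃ c0 : O Q,
      mat c0 = ε • (mat k0 * mat c) ∧ mat c0 * R6 = R6 * mat c0 ∧ app c0 (tgt 0) = tgt 0 := by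
    have hkc : mat (k0 * c) * R6 = R6 * mat (k0 * c) := by
      rw [mat_mul, mul_assoc, hc, ← mul_assoc, hc0, mul_assoc]
    rcases hv0 with h | ⟨-, h⟩
    · exact ⟨1, Or.inl rfl, k0 * c, by rw [one_smul, mat_mul], hkc, by rw [app_mul, h]⟩
    · refine ⟨-1, Or.inr rfl, J * (k0 * c), ?_, ?_, ?_⟩
      · rw [mat_mul, hJ, neg_one_mul, mat_mul, neg_smul, one_smul]
      · rw [mat_mul, hJ, neg_one_mul, neg_mul, hkc, mul_neg]
      · rw [app_mul, app_mul, h, app_eq_mulVec, hJ, neg_mulVec, one_mulVec, neg_neg]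
  have hP1 : Cand1 (app c0 (tgt 1)) := by
    obtain ⟨a1, a2, a3, a4, a5, a6⟩ := t1
    refine ⟨by rw [qv_app, a1], ?_, ?_, ?_, ?_, by rw [comm_app hc0c, pol_app, a6]⟩
    · conv_lhs => rw [← hc0v, pol_app, a2]
    · conv_lhs => rw [← hc0v, comm_app hc0c, pol_app, a3]
    · conv_lhs => rw [← hc0v, comm_app_sq hc0c, pol_app, a4]
    · rw [comm_app hc0c]; exact fun h => a5 (app_injective c0 h)
  obtain ⟨k1, hk1, hk1c, hk1f, -, hv1⟩ := stage (s := 1) (by decide) cover1 hP1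
  obtain ⟨c1, hc1m, hc1c, hc1v0, hc1v1⟩ : ∃ c1 : O Q, mat c1 = mat k1 * mat c0 ∧
      mat c1 * R6 = R6 * mat c1 ∧ app c1 (tgt 0) = tgt 0 ∧ app c1 (tgt 1) = tgt 1 := by
    refine ⟨k1 * c0, mat_mul _ _, by rw [mat_mul, mul_assoc, hc0c, ← mul_assoc, hk1c, mul_assoc],
      by rw [app_mul, hc0v, hk1f le_rfl], ?_⟩
    rcases hv1 with h | ⟨h, -⟩
    · rw [app_mul, h]
    · exact absurd h (by decide)
  have hP2 : Cand2 (app c1 (tgt 2)) := by
    obtain ⟨a1, a2, a3, a4, a5, a6, -, -⟩ := t2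
    refine ⟨by rw [qv_app, a1], ?_, ?_, ?_, ?_, by rw [comm_app hc1c, pol_app, a6], ?_, ?_⟩
    · conv_lhs => rw [← hc1v0, pol_app, a2]
    · conv_lhs => rw [← hc1v0, comm_app hc1c, pol_app, a3]
    · conv_lhs => rw [← hc1v0, comm_app_sq hc1c, pol_app, a4]
    · rw [comm_app hc1c]; exact fun h => a5 (app_injective c1 h)
    · conv_lhs => rw [← hc1v1, pol_app]
    · conv_lhs => rw [← hc1v1, comm_app hc1c, pol_app]
  obtain ⟨k2, hk2, hk2c, hk2f0, hk2f1, hv2⟩ := stage (s := 2) (by decide) cover2 hP2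
  set c2 := k2 * c1 with hc2
  have hc2c : mat c2 * R6 = R6 * mat c2 := by
    rw [hc2, mat_mul, mul_assoc, hc1c, ← mul_assoc, hk2c, mul_assoc]
  have hc2v0 : app c2 (tgt 0) = tgt 0 := by rw [hc2, app_mul, hc1v0, hk2f0 (by decide)]
  have hc2v1 : app c2 (tgt 1) = tgt 1 := by rw [hc2, app_mul, hc1v1, hk2f1 le_rfl]
  have hc2v2 : app c2 (tgt 2) = tgt 2 := by
    rcases hv2 with h | ⟨h, -⟩
    · rw [hc2, app_mul, h]
    · exact absurd h (by decide)
  have hall : ∀ x ∈ [tgt 0, R6 *ᵥ tgt 0, S6 *ᵥ tgt 0, tgt 1, R6 *ᵥ tgt 1, tgt 2, R6 *ᵥ tgt 2],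
      app c2 x = x := by
    intro x hx
    simp only [List.mem_cons, List.not_mem_nil, or_false] at hx
    rcases hx with rfl | rfl | rfl | rfl | rfl | rfl | rfl
    · exact hc2v0
    · rw [← comm_app hc2c, hc2v0]
    · rw [← comm_app_sq hc2c, hc2v0]
    · exact hc2v1
    · rw [← comm_app hc2c, hc2v1]
    · exact hc2v2
    · rw [← comm_app hc2c, hc2v2]
  have hspan : mat c2 * spanMat = spanMat := by
    refine Matrix.ext fun i j => ?_
    have hlt : ∀ j : I, ix j < 7 := by decide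
    have hl : ix j < [tgt 0, R6 *ᵥ tgt 0, S6 *ᵥ tgt 0, tgt 1, R6 *ᵥ tgt 1, tgt 2,
        R6 *ᵥ tgt 2].length := hlt j
    have := congrFun (hall _ (List.getElem_mem hl)) i
    rw [← List.getD_eq_getElem _ 0 hl, app_eq_mulVec] at this
    exact this
  have hc21 : mat c2 = 1 := by
    calc mat c2 = mat c2 * (spanMat * enc Data.spanInv) := by rw [span_inv, mul_one]
      _ = spanMat * enc Data.spanInv := by rw [← mul_assoc, hspan]
      _ = 1 := span_inv
  rw [hc2, mat_mul, hc1m, hc0m, ← mul_assoc, mul_smul_comm, ← mul_assoc] at hc21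
  refine ⟨(k2 * k1 * k0)⁻¹, inv_mem (mul_mem (mul_mem hk2 hk1) hk0), ?_⟩
  have hinv : ε • mat c = mat (k2 * k1 * k0)⁻¹ := by
    calc ε • mat c = mat (k2 * k1 * k0)⁻¹ * (ε • (mat (k2 * k1 * k0) * mat c)) := by
          rw [mul_smul_comm, ← mul_assoc, mat_inv_mul, one_mul]
      _ = mat (k2 * k1 * k0)⁻¹ := by rw [mat_mul, mat_mul, hc21, mul_one]
  rcases hε with rfl | rfl
  · left; rwa [one_smul] at hinv
  · right; rw [← hinv, neg_smul, one_smul, neg_neg]

/-- The first reflection vector. -/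
def va : V := e 3 + e 6

/-- The second reflection vector. -/
def vb : V := e 3 - e 6

/-- The matrix of the product of the two reflections. -/
def hMat : Mat := Matrix.of fun i j =>
  let x := e (ix j)
  let y := x - (2 * pol x vb) • vb
  (y - (1 * pol y va) • va) i

theorem hMat_conj : hMat * rep 6 = rep 7 * hMat := by decide +kernel

theorem qv_va : qv va = 1 ∧ qv vb = 2 := by decide

theorem det_val (g : O Q) : ((detHom Q g : (ZMod 3)ˣ) : ZMod 3) = Matrix.det (mat g) := by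
  rw [detHom, MonoidHom.comp_apply, Matrix.GeneralLinearGroup.val_det_apply, Subgroup.subtype_apply]

/-- **The split class.** -/
theorem not_rel_six_seven : ¬ Rel (rep 6) (rep 7) := by
  rintro ⟨M, ⟨k, hk, rfl⟩, hrel⟩
  have ha : Q va = 1 := by rw [Q_eq, qv_va.1]
  have hb : Q vb = 2 := by rw [Q_eq, qv_va.2]
  have hi1 : (Q va)⁻¹ = 1 := by rw [ha, inv_one]
  have hi2 : (Q vb)⁻¹ = 2 := by rw [hb]; exact inv_eq_of_mul_eq_one_right (by decide)
  set h := refl Q va * refl Q vb with hh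
  have hmat : mat h = hMat := by
    refine Matrix.ext_of_mulVec_single fun j => ?_
    rw [← app_eq_mulVec, hh, app_mul, app_refl, app_refl, hi1, hi2]
    funext i
    rw [Matrix.mulVec_single_one, Matrix.col_apply, hMat, Matrix.of_apply]
    simp only [e_eq_single, polar_eq]
  have hchi : chiPair Q (2 : ZMod 3) h = (-1, -1) := by
    rw [hh, map_mul, chiPair_refl two_ne two_not_sq (by rw [ha]; decide),
      chiPair_refl two_ne two_not_sq (by rw [hb]; decide), ha, hb,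
      if_pos IsSquare.one, if_neg two_not_sq]
    rfl
  set c := h⁻¹ * k with hc
  have hcomm : mat c * R6 = R6 * mat c := by
    have h1 : mat h * R6 = rep 7 * mat h := by rw [hmat]; exact hMat_conj
    rw [hc, mat_mul, mul_assoc, R6, hrel, ← R6.eq_def]
    calc mat h⁻¹ * (rep 7 * mat k) = mat h⁻¹ * (rep 7 * (mat h * mat h⁻¹) * mat k) := by
          rw [mat_mul_inv, mul_one]
      _ = mat h⁻¹ * (rep 7 * mat h) * (mat h⁻¹ * mat k) := by simp only [mul_assoc]
      _ = (mat h⁻¹ * mat h) * R6 * (mat h⁻¹ * mat k) := by rw [← h1]; simp only [mul_assoc]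
      _ = R6 * (mat h⁻¹ * mat k) := by rw [mat_inv_mul, one_mul]
  have hchic : chiPair Q (2 : ZMod 3) c = (-1, -1) := by
    rw [hc, map_mul, map_inv, hchi, (mem_Om_iff k).1 hk, mul_one]
    rfl
  obtain ⟨l, hl, hcl | hcl⟩ := centralizer_R6 c hcomm
  · rw [mat_injective hcl, (mem_Om_iff l).1 hl] at hchic
    exact absurd hchic (by decide)
  · have hdl : detHom Q l = 1 := by
      have hk := Abelianization.commutator_subset_ker (detHom Q) (x := l) hl
      rw [MonoidHom.mem_ker] at hk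
      exact hk
    have hdc : detHom Q c = -1 := by
      apply Units.ext
      rw [det_val, Units.val_neg, Units.val_one]
      have : (mat l).det = 1 := by rw [← det_val, hdl, Units.val_one]
      rw [hcl, Matrix.det_neg, this, mul_one, Fintype.card_sum, Fintype.card_sum,
        Fintype.card_fin, Fintype.card_unit]
      norm_num
    have hdd := detHom_eq nondeg two_ne two_not_sq c
    rw [chiPair, MonoidHom.prod_apply, Prod.mk.injEq] at hchic
    rw [hdc, hchic.1, hchic.2] at hdd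
    have := congrArg Units.val hdd
    simp at this
    exact absurd this (by decide)

end CfsgLib.Omega73
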