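import Cfsg.Agent.Lib.OmegaSevenThree.Cover
import Cfsg.Agent.Lib.OmegaSevenThree.Split
import Cfsg.Agent.Lib.Orth.OddInvolutions

/-!
`Ω₇(3)` has exactly seven classes of subgroups of order three.
-/

set_option autoImplicit false
set_option maxHeartbeats 0
set_option maxRecDepth 100000

namespace CfsgLib.Omega73

open Matrix QuadraticMap CfsgLib.Orth

theorem rep_cube : ∀ i < 8, repSq i * rep i = 1 := by decide +kernel

theorem rep_inOm_check : ∀ i < 8, ∀ a b : I,
    pol (rep i *ᵥ e (ix a)) (rep i *ᵥ e (ix b)) = pol (e (ix a)) (e (ix b)) := by decide +kernel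

theorem rep_zero : rep 0 = 1 := by decide +kernel

theorem rep_ne_one : ∀ i < 8, i ≠ 0 → rep i ≠ 1 := by decide +kernel

theorem rep_inOm {i : ℕ} (hi : i < 8) : InOm (rep i) :=
  inOm_of_cube (by rw [repSq_eq i hi, rep_cube i hi]) (rep_inOm_check i hi)

theorem rep_eq_of_rel {i j : ℕ} (hi : i < 8) (hj : j < 8) (h : Rel (rep i) (rep j)) : i = j := by
  rcases inv_separates i hi j hj (inv_eq_of_rel hi hj h) with h' | ⟨rfl, rfl⟩ | ⟨rfl, rfl⟩
  · exact h'
  · exact absurd h not_rel_six_seven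
  · exact absurd h.symm not_rel_six_seven

theorem eq_one_of_rel_one {g : O Q} (h : Rel (mat g) 1) : g = 1 := by
  obtain ⟨M, ⟨k, -, rfl⟩, h⟩ := h
  rw [one_mul] at h
  have h' : k * g = k := mat_injective (by rw [mat_mul, h])
  exact mul_eq_left.1 h'

/-- The check for a square. -/
def PowOk (i : ℕ) : Prop :=
  Data.powerWords.getD i 0 < 192 ∧
    word (Data.powerWords.getD i 0) * repSq i = rep i * word (Data.powerWords.getD i 0)

instance decPowOk (i : ℕ) : Decidable (PowOk i) := by unfold PowOk; infer_instance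

theorem pow_ok : ∀ i < 8, PowOk i := by decide +kernel

theorem rep_sq_rel {i : ℕ} (hi : i < 8) : Rel (repSq i) (rep i) :=
  ⟨_, word_inOm _ (pow_ok i hi).1, (pow_ok i hi).2⟩

/-- **Seven classes of subgroups of order three.** -/
theorem seven_classes : ∃ Y : Fin 7 → Subgroup Om, (∀ i, Nat.card (Y i) = 3) ∧
    (∀ i j, (∃ g : Om, (Y i).map (MulAut.conj g).toMonoidHom = Y j) → i = j) ∧
    ∀ X : Subgroup Om, Nat.card X = 3 →
      ∃ i, ∃ g : Om, X.map (MulAut.conj g).toMonoidHom = Y i := by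
  classical
  choose k hk hkm using fun i : Fin 7 => rep_inOm (i := i.1 + 1) (by omega)
  let y : Fin 7 → Om := fun i => ⟨k i, hk i⟩
  have hcube : ∀ i, y i ^ 3 = 1 := fun i => by
    refine Subtype.ext (mat_injective ?_)
    show mat (k i ^ 3) = mat 1
    rw [pow_succ, pow_two, mat_mul, mat_mul, hkm, repSq_eq _ (by omega), rep_cube _ (by omega),
      mat_one]
  have hne : ∀ i, y i ≠ 1 := fun i h => by
    refine rep_ne_one (i.1 + 1) (by omega) (Nat.succ_ne_zero _) ?_
    rw [← hkm i, show k i = 1 from congrArg Subtype.val h, mat_one]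
  have hord : ∀ i, orderOf (y i) = 3 := fun i => orderOf_eq_prime (hcube i) (hne i)
  have hmap : ∀ (g : Om) (a : Om), (Subgroup.zpowers a).map (MulAut.conj g).toMonoidHom =
      Subgroup.zpowers (g * a * g⁻¹) := fun g a => by
    rw [MonoidHom.map_zpowers]; rfl
  refine ⟨fun i => Subgroup.zpowers (y i), fun i => by rw [Nat.card_zpowers, hord], ?_, ?_⟩
  · rintro i j ⟨g, hg⟩
    rw [hmap] at hg
    simp only at hg
    have hmem : g * y i * g⁻¹ ∈ Subgroup.zpowers (y j) := hg ▸ Subgroup.mem_zpowers _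
    obtain ⟨n, hn, hnj⟩ : ∃ n, n < 3 ∧ y j ^ n = g * y i * g⁻¹ := by
      rw [Subgroup.mem_zpowers_iff] at hmem
      obtain ⟨z, hz⟩ := hmem
      refine ⟨(z % 3).toNat, by omega, ?_⟩
      rw [← hz, ← zpow_natCast, Int.toNat_of_nonneg (by omega)]
      have := zpow_mod_orderOf (y j) z
      rwa [hord] at this
    have h0 : n ≠ 0 := fun h => hne i (by
      rw [h, pow_zero] at hnj
      rwa [eq_comm, conj_eq_one_iff] at hnj)
    have hrel : Rel (rep (i.1 + 1)) (mat ((y j ^ n : Om) : O Q)) := by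
      rw [hnj, ← hkm i]
      exact rel_conj g.1 (k i) g.2
    have key : Rel (rep (i.1 + 1)) (rep (j.1 + 1)) := by
      interval_cases n
      · exact absurd rfl h0
      · rwa [pow_one, show ((y j : Om) : O Q) = k j from rfl, hkm] at hrel
      · rw [pow_two, show ((y j * y j : Om) : O Q) = k j * k j from rfl, mat_mul, hkm,
          repSq_eq _ (by omega)] at hrel
        exact hrel.trans (rep_sq_rel (by omega))
    have := rep_eq_of_rel (by omega) (by omega) key
    exact Fin.ext (by omega)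
  · intro X hX
    obtain ⟨x, hx⟩ := ((isCyclic_of_prime_card (p := 3) hX).exists_generator)
    have hXe : X = Subgroup.zpowers (x : Om) := by
      refine le_antisymm (fun a ha => ?_) (Subgroup.zpowers_le.2 x.2)
      obtain ⟨z, hz⟩ := Subgroup.mem_zpowers_iff.1 (hx ⟨a, ha⟩)
      exact Subgroup.mem_zpowers_iff.2 ⟨z, congrArg Subtype.val hz⟩
    have hxo : orderOf (x : Om) = 3 := by rw [← Nat.card_zpowers, ← hXe, hX]
    have hx3 : ((x : Om) : O Q) * (x : Om) * (x : Om) = 1 := by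
      have := congrArg Subtype.val (pow_orderOf_eq_one (x : Om))
      rw [hxo, pow_succ, pow_two] at this
      exact this
    obtain ⟨i, hi, hrel⟩ := exists_rep hx3
    have hi0 : i ≠ 0 := fun h => by
      rw [h, rep_zero] at hrel
      have h1 : (x : Om) = 1 := Subtype.ext (eq_one_of_rel_one hrel)
      rw [h1, orderOf_one] at hxo
      omega
    obtain ⟨j, rfl⟩ : ∃ j : Fin 7, i = j.1 + 1 := ⟨⟨i - 1, by omega⟩, by simp; omega⟩
    obtain ⟨M, ⟨c, hc, rfl⟩, hM⟩ := hrel
    refine ⟨j, ⟨c, hc⟩, ?_⟩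
    show _ = Subgroup.zpowers (y j)
    rw [hXe, hmap]
    congr 1
    refine Subtype.ext ?_
    show c * ((x : Om) : O Q) * c⁻¹ = k j
    rw [mul_inv_eq_iff_eq_mul]
    exact mat_injective (by rw [mat_mul, mat_mul, hkm, hM])

/-- **`PΩ₇(3)` form.** -/
theorem seven_classes_POmega :
    ∃ Y : Fin 7 → Subgroup (Cfsg.POmega (ZMod 3) (Cfsg.quadFormOdd 3 (ZMod 3))),
      (∀ i, Nat.card (Y i) = 3) ∧
      (∀ i j, (∃ g : Cfsg.POmega (ZMod 3) (Cfsg.quadFormOdd 3 (ZMod 3)),
        (Y i).map (MulAut.conj g).toMonoidHom = Y j) → i = j) ∧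
      ∀ X : Subgroup (Cfsg.POmega (ZMod 3) (Cfsg.quadFormOdd 3 (ZMod 3))), Nat.card X = 3 →
        ∃ i, ∃ g : Cfsg.POmega (ZMod 3) (Cfsg.quadFormOdd 3 (ZMod 3)),
          X.map (MulAut.conj g).toMonoidHom = Y i := by
  rw [← Cfsg.Agent.Spinor57.qOdd_coe]
  have hbot : Subgroup.center (Cfsg.Omega (ZMod 3) ⇑Q) = ⊥ :=
    CfsgLib.OrthOddInv.center_omega_eq_bot two_ne le_rfl
  let π := QuotientGroup.mk' (Subgroup.center (Cfsg.Omega (ZMod 3) ⇑Q))
  have hinj : Function.Injective π := by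
    rw [← MonoidHom.ker_eq_bot_iff, QuotientGroup.ker_mk', hbot]
  have hsurj : Function.Surjective π := QuotientGroup.mk'_surjective _
  let E : Om ≃* Cfsg.POmega (ZMod 3) ⇑Q := MulEquiv.ofBijective π ⟨hinj, hsurj⟩
  have hE : ∀ (g : Om) (S : Subgroup Om),
      (S.map E.toMonoidHom).map (MulAut.conj (E g)).toMonoidHom =
        (S.map (MulAut.conj g).toMonoidHom).map E.toMonoidHom := fun g S => by
    rw [Subgroup.map_map, Subgroup.map_map]
    refine congrArg (fun f => S.map f) (MonoidHom.ext fun a => ?_)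
    show E g * E a * (E g)⁻¹ = E (g * a * g⁻¹)
    rw [map_mul, map_mul, map_inv]
  obtain ⟨Y, hY, hne, hall⟩ := seven_classes
  have hEi : Function.Injective E.toMonoidHom := E.injective
  refine ⟨fun i => (Y i).map E.toMonoidHom, fun i => ?_, ?_, ?_⟩
  · exact (Subgroup.card_map_of_injective hEi).trans (hY i)
  · rintro i j ⟨g, hg⟩
    obtain ⟨g, rfl⟩ := E.surjective g
    refine hne i j ⟨g, Subgroup.map_injective hEi ?_⟩
    rw [← hE]; exact hg
  · intro X hX
    have hXX : (X.comap E.toMonoidHom).map E.toMonoidHom = X :=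
      Subgroup.map_comap_eq_self_of_surjective E.surjective X
    have hcard := Subgroup.card_map_of_injective (K := X.comap E.toMonoidHom) hEi
    rw [hXX] at hcard
    obtain ⟨i, g, hg⟩ := hall (X.comap E.toMonoidHom) (hcard.symm.trans hX)
    refine ⟨i, E g, ?_⟩
    rw [← hXX, hE, hg]

end CfsgLib.Omega73
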